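import Groth.Agent.L13.Isoc.Lattice
import Mathlib.LinearAlgebra.FiniteDimensional.Basic
import Mathlib.Order.Lattice.Nat
import Mathlib.RingTheory.WittVector.Complete
import Mathlib.RingTheory.WittVector.Teichmuller

/-! Chains of submodules between `pM` and `M` have at most `rank M` strict steps. -/

set_option autoImplicit false

noncomputable section

open scoped Pointwise Isocrystal

universe u v

namespace Groth.L13.Isoc

variable {p : ℕ} [Fact p.Prime] {k : Type u} [Field k] [CharP k p] [PerfectRing k p]
variable {N : Type v} [AddCommGroup N] [Module (WittVector p k) N] [Module K(p, k) N]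
  [IsScalarTower (WittVector p k) K(p, k) N]

local notation "W" => WittVector p k

theorem mem_pPow_one_of_coeff {h : ℕ} {M : Submodule W N} (b : Module.Basis (Fin h) W M) {x : M}
    (hx : ∀ i, (b.repr x i).coeff 0 = 0) : (x : N) ∈ Isoc.pPow 1 M := by
  have hx' : ∀ i, ∃ w, b.repr x i = (p : W) * w := fun i =>
    Ideal.mem_span_singleton.1 ((WittVector.mem_span_p_iff_coeff_zero_eq_zero _).2 (hx i))
  choose w hw using hx'
  have hsum := congrArg Subtype.val (b.sum_repr x)
  simp only [Submodule.coe_sum, Submodule.coe_smul, hw, mul_smul, ← Finset.smul_sum] at hsum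
  rw [← hsum, W_smul (p : W), iW_natCast, ← zpow_one (p : K(p, k))]
  exact smul_mem_pPow (sum_mem fun i _ => M.smul_mem _ (b i).2)

theorem chain_stable {h : ℕ} {M : Submodule W N} (b : Module.Basis (Fin h) W M)
    (Q : ℕ → Submodule W N) (hQ : Monotone Q) (hp : Isoc.pPow 1 M ≤ Q 0) (hM : ∀ j, Q j ≤ M) :
    ∃ j ≤ h, Q (j + 1) = Q j := by
  haveI : RingHomSurjective (WittVector.constantCoeff : W →+* k) :=
    ⟨fun a => ⟨WittVector.teichmuller p a, WittVector.teichmuller_coeff_zero p a⟩⟩
  let χ : M →ₛₗ[(WittVector.constantCoeff : W →+* k)] (Fin h → k) :=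
    { toFun := fun x i => WittVector.constantCoeff (b.repr x i)
      map_add' := fun x y => by funext i; simp [map_add]
      map_smul' := fun c x => by funext i; simp [map_smul, map_mul] }
  let S : ℕ → Submodule k (Fin h → k) := fun j => Submodule.map χ ((Q j).comap M.subtype)
  have hS : Monotone S := fun i j hij => Submodule.map_mono (Submodule.comap_mono (hQ hij))
  have hinj : ∀ j, S (j + 1) = S j → Q (j + 1) = Q j := by
    intro j hj
    refine le_antisymm (fun x hx => ?_) (hQ (Nat.le_succ j))
    have hxM := hM _ hx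
    have hm : χ ⟨x, hxM⟩ ∈ S j := hj ▸ Submodule.mem_map_of_mem (show (⟨x, hxM⟩ : M) ∈ (Q (j + 1)).comap M.subtype from hx)
    obtain ⟨y, hy, hxy⟩ := hm
    have hker : ∀ i, (b.repr (⟨x, hxM⟩ - y) i).coeff 0 = 0 := fun i => by
      show WittVector.constantCoeff (b.repr (⟨x, hxM⟩ - y) i) = 0
      rw [map_sub, Finsupp.sub_apply, map_sub, sub_eq_zero]
      exact (congrFun hxy i).symm
    have hd : x - (y : N) ∈ Q j := hQ (Nat.zero_le j) (hp (mem_pPow_one_of_coeff b hker))
    have hy' : (y : N) ∈ Q j := hy
    simpa using add_mem hd hy'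
  by_contra hc
  push Not at hc
  have hlt : ∀ j ≤ h + 1, j ≤ Module.finrank k (S j) := by
    intro j
    induction j with
    | zero => simp
    | succ j ih =>
      intro hj
      have h1 := ih (by omega)
      have h2 : S j < S (j + 1) :=
        lt_of_le_of_ne (hS (Nat.le_succ j)) fun e => hc j (by omega) (hinj j e.symm)
      have := Submodule.finrank_lt_finrank_of_lt h2
      omega
  have := hlt (h + 1) le_rfl
  have h3 := Submodule.finrank_le (S (h + 1))
  simp at h3
  omega

variable {τ : K(p, k) →+* K(p, k)} [IsGood τ] (G : N →ₛₗ[τ] N)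

theorem latImg_rank_le_of_topNilpotent {h : ℕ} {M : Submodule W N} (b : Module.Basis (Fin h) W M)
    (hG : Isoc.latImg G 1 M ≤ M) {n : ℕ} (hn : Isoc.latImg G n M ≤ Isoc.pPow 1 M) :
    Isoc.latImg G h M ≤ Isoc.pPow 1 M := by
  have hstep : ∀ j, Isoc.latImg G (j + 1) M ≤ Isoc.latImg G j M := fun j => by
    rw [latImg_add]; exact latImg_mono G j hG
  have hle : ∀ j, Isoc.latImg G j M ≤ M := fun j => by
    induction j with
    | zero => rw [latImg_zero]
    | succ j ih => exact (hstep j).trans ih
  let R : ℕ → Submodule W N := fun j => Isoc.latImg G j M ⊔ Isoc.pPow 1 M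
  have hR : Antitone R := antitone_nat_of_succ_le fun j => sup_le_sup_right (hstep j) _
  have hpM : Isoc.pPow 1 M ≤ M := (pPow_anti (by norm_num) M).trans (pPow_zero M).le
  obtain ⟨j, hj, he⟩ := chain_stable b (fun j => R (h + 1 - j)) (fun i j hij => hR (by omega))
    le_sup_right (fun j => sup_le (hle _) hpM)
  obtain ⟨i, hi, he⟩ : ∃ i ≤ h, R i = R (i + 1) :=
    ⟨h - j, by omega, by
      rw [show h + 1 - (j + 1) = h - j by omega, show h + 1 - j = h - j + 1 by omega] at he
      exact he⟩
  have hinv : ∀ m, R (i + m) = R i := by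
    intro m
    induction m with
    | zero => rfl
    | succ m ih =>
      refine le_antisymm (hR (by omega)) ?_
      rw [he]
      refine sup_le ?_ le_sup_right
      have h1 : Isoc.latImg G i M ≤ R (i + m) := ih ▸ le_sup_left
      have h2 := latImg_mono G 1 h1
      rw [← latImg_add, add_comm 1 i, latImg_sup, ← latImg_add, latImg_pPow] at h2
      refine h2.trans (sup_le_sup ?_ (pPow_mono 1 hG))
      rw [show 1 + (i + m) = i + (m + 1) by ring]
  have hanti : Antitone fun j => Isoc.latImg G j M := antitone_nat_of_succ_le hstep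
  have h1 : R i ≤ Isoc.pPow 1 M := by
    rw [← hinv n]
    exact sup_le ((hanti (Nat.le_add_left n i)).trans hn) le_rfl
  exact le_trans le_sup_left ((hR hi).trans h1)

end Groth.L13.Isoc
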