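import Groth.Agent.L13.Isoc.Decomp

/-! Equality case of the determinant bound and the standard isocrystals. -/

set_option autoImplicit false

noncomputable section

open scoped Pointwise Isocrystal

universe u v

namespace Groth.L13.Isoc

variable {p : ℕ} [Fact p.Prime] {k : Type u} [Field k] [CharP k p] [PerfectRing k p]
variable {N : Type v} [AddCommGroup N] [Module (WittVector p k) N] [Module K(p, k) N]
  [IsScalarTower (WittVector p k) K(p, k) N]
variable {τ : K(p, k) →+* K(p, k)} [IsGood τ] (F : N →ₛₗ[τ] N)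
variable {h : ℕ} (b : Module.Basis (Fin h) K(p, k) N)

theorem mul_eq_of_latImg_eq {d : ℤ} (hd : Isoc.IsOrdP (Isoc.detCoeff b F) d)
    {M : Submodule (WittVector p k) N} (hM : M.IsLattice K(p, k)) {n : ℕ} {r : ℤ}
    (he : Isoc.latImg F n M = Isoc.pPow r M) : r * h = n * d := by
  refine le_antisymm (mul_le_of_latImg_le F b hd hM he.le) ?_
  haveI := hM
  obtain ⟨h', ⟨c⟩⟩ := exists_lattice_basis hM
  obtain rfl : h' = h := by
    rw [← finrank_eq_of_basis hM c, Module.finrank_eq_card_basis b, Fintype.card_fin]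
  set b' := c.extendOfIsLattice K(p, k) with hb'
  have hd' := isOrdP_detCoeff_change F b b' hd
  have hdet := isOrdP_det_mat F b' hd' n
  have hx : ∀ j, ∃ x ∈ M, (⇑F)^[n] x = (p : K(p, k)) ^ r • b' j := fun j => by
    refine (mem_latImg F).1 ?_
    rw [he]
    refine smul_mem_pPow ?_
    rw [hb', Module.Basis.extendOfIsLattice_apply]
    exact (c j).2
  choose x hxM hxe using hx
  have hv : ∀ j l, InP (b'.repr (x j) l) 0 := fun j l =>
    (mem_pPow_iff_repr c hM).1 (by rw [pPow_zero]; exact hxM j) l
  set C : Matrix (Fin h') (Fin h') K(p, k) := Matrix.of fun l j => (τ ^ n) (b'.repr (x j) l) with hC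
  have hmul : mat F b' n * C = (p : K(p, k)) ^ r • (1 : Matrix (Fin h') (Fin h') K(p, k)) := by
    refine Matrix.ext fun i j => ?_
    have h1 : (⇑F)^[n] (x j) = ∑ l, (τ ^ n) (b'.repr (x j) l) • (⇑F)^[n] (b' l) := by
      conv_lhs => rw [← b'.sum_repr (x j)]
      rw [← Isoc.iter_apply, map_sum]
      simp only [map_smulₛₗ, Isoc.iter_apply]
    have h2 := congrArg (fun v => b'.repr v i) ((hxe j).symm.trans h1)
    simp only [map_sum, map_smul, Finsupp.finsetSum_apply, Finsupp.smul_apply, smul_eq_mul,
      Module.Basis.repr_self, Finsupp.single_apply] at h2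
    rw [Matrix.mul_apply, Matrix.smul_apply, Matrix.one_apply, smul_eq_mul, if_congr (eq_comm (a := i)) rfl rfl,
      h2]
    exact Finset.sum_congr rfl fun l _ => mul_comm _ _
  have hCdet : Isoc.IsOrdP C.det (r * h' - n * d) := by
    have h1 : (mat F b' n).det * C.det = ((p : K(p, k)) ^ r) ^ h' := by
      rw [← Matrix.det_mul, hmul, Matrix.det_smul, Matrix.det_one, mul_one, Fintype.card_fin]
    rw [← inv_mul_cancel_left₀ (IsOrdP.ne_zero hdet) C.det, h1, ← zpow_natCast, ← zpow_mul,
      show r * (h' : ℤ) - n * d = -(n * d) + r * h' by ring]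
    exact IsOrdP.mul (IsOrdP.inv hdet) (isOrdP_zpow _)
  have hCin : InP C.det (0 : ℤ) := by
    have := inP_det C 0 fun l j => by
      simpa only [hC, Matrix.of_apply] using InP.tau (τ := τ ^ n) (hv j l)
    simpa using this
  have := IsOrdP.le hCdet hCin
  linarith

section Std
variable (τ : K(p, k) →+* K(p, k)) [IsGood τ] (d : ℤ) (h : ℕ)

omit [IsGood τ] [PerfectRing k p] in
theorem stdIsoc_iterate (x : Fin h → K(p, k)) (n : ℕ) (hn : n ≤ h) (i j : Fin h)
    (hij : (j : ℕ) + n = i ∨ (j : ℕ) + n = i + h) :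
    (⇑(Isoc.stdIsoc τ d h))^[n] x i = (if (j : ℕ) + n = i then 1 else (p : K(p, k)) ^ d) * (τ ^ n) (x j) := by
  induction n generalizing i with
  | zero =>
    obtain rfl : j = i := by
      rcases hij with e | e
      · exact Fin.ext (by simpa using e)
      · omega
    simp
  | succ n ih =>
    obtain ⟨m, rfl⟩ : ∃ m, h = m + 1 := ⟨h - 1, by omega⟩
    rw [Function.iterate_succ_apply', Isoc.stdIsoc_apply]
    set l := (finRotate (m + 1)).symm i with hl
    have hval : (i : ℕ) = if l = Fin.last m then 0 else (l : ℕ) + 1 := by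
      rw [← coe_finRotate, hl, Equiv.apply_symm_apply]
    have hcases : ((l : ℕ) = m ∧ (i : ℕ) = 0) ∨ ((i : ℕ) = l + 1) := by
      split_ifs at hval with hlast
      · exact .inl ⟨by simp [hlast], hval⟩
      · exact .inr hval
    rw [ih (by omega) l (by omega), map_mul, pow_succ' τ n, RingHom.coe_mul, Function.comp_apply, ← mul_assoc]
    congr 1
    have := l.isLt
    have := j.isLt
    rcases hcases with ⟨h1, h2⟩ | h1
    · rw [if_pos h2, if_pos (by omega), if_neg (by omega), map_one, mul_one]
    · rw [if_neg (by omega), one_mul]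
      by_cases h3 : (j : ℕ) + n = l
      · rw [if_pos h3, if_pos (by omega), map_one]
      · rw [if_neg h3, if_neg (by omega), tau_zpow]

theorem stdIsoc_bijective : Function.Bijective (Isoc.stdIsoc τ d h) := by
  refine ⟨fun x y hxy => funext fun j => ?_, fun y => ?_⟩
  · have := congrFun hxy (finRotate h j)
    simp only [Isoc.stdIsoc_apply, Equiv.symm_apply_apply] at this
    refine RingHom.injective τ (mul_left_cancel₀ ?_ this)
    split_ifs
    · exact zpow_ne_zero _ pne
    · exact one_ne_zero
  · refine ⟨fun j => (tau_surjective (τ := τ)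
      ((if (finRotate h j).val = 0 then (p : K(p, k)) ^ d else 1)⁻¹ * y (finRotate h j))).choose, funext fun i => ?_⟩
    rw [Isoc.stdIsoc_apply, (tau_surjective (τ := τ) _).choose_spec, Equiv.apply_symm_apply, ← mul_assoc,
      mul_inv_cancel₀, one_mul]
    split_ifs
    · exact zpow_ne_zero _ pne
    · exact one_ne_zero

omit [IsGood τ] in
/-- The standard lattice. -/
abbrev stdLattice : Submodule (WittVector p k) (Fin h → K(p, k)) :=
  LinearMap.range ((Algebra.linearMap (WittVector p k) K(p, k)).compLeft (Fin h))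

omit [IsGood τ] [PerfectRing k p] in
theorem isLattice_stdLattice : (stdLattice (p := p) (k := k) h).IsLattice K(p, k) := by
  refine ⟨?_, ?_⟩
  · rw [stdLattice, LinearMap.range_eq_map]
    exact Module.Finite.fg_top.map _
  · rw [eq_top_iff, ← (Pi.basisFun K(p, k) (Fin h)).span_eq]
    refine Submodule.span_mono ?_
    rintro _ ⟨i, rfl⟩
    refine ⟨Pi.single i 1, funext fun j => ?_⟩
    rw [Pi.basisFun_apply]
    by_cases hj : j = i
    · subst hj; simp
    · simp [hj]

theorem latImg_stdLattice :
    Isoc.latImg (Isoc.stdIsoc τ d h) h (stdLattice h) = Isoc.pPow d (stdLattice h) := by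
  have hF : ∀ (x : Fin h → K(p, k)) (i : Fin h),
      (⇑(Isoc.stdIsoc τ d h))^[h] x i = (p : K(p, k)) ^ d * (τ ^ h) (x i) := fun x i => by
    rw [stdIsoc_iterate τ d h x h le_rfl i i (.inr rfl), if_neg]
    have := i.isLt; omega
  refine le_antisymm ((latImg_le_iff _).2 ?_) fun y hy => ?_
  · rintro _ ⟨w, rfl⟩
    refine mem_pPow.2 ?_
    choose w' hw' using fun i => tau_iW (τ := τ ^ h) (w i)
    refine ⟨w', funext fun i => ?_⟩
    simp only [Pi.smul_apply, smul_eq_mul, hF, LinearMap.compLeft_apply, Function.comp_apply,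
      Algebra.linearMap_apply]
    rw [← mul_assoc, ← zpow_add₀ pne, neg_add_cancel, zpow_zero, one_mul, hw']
  · obtain ⟨w, hw⟩ := mem_pPow.1 hy
    choose w' hw' using fun i => iW_eq_tau (τ := τ ^ h) (w i)
    refine (mem_latImg _).2 ⟨_, ⟨w', rfl⟩, funext fun i => ?_⟩
    have h1 := congrFun hw i
    simp only [Pi.smul_apply, smul_eq_mul, LinearMap.compLeft_apply, Function.comp_apply,
      Algebra.linearMap_apply] at h1 ⊢
    simp only [hF, LinearMap.compLeft_apply, Function.comp_apply, Algebra.linearMap_apply]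
    rw [hw', h1, ← mul_assoc, ← zpow_add₀ pne, add_neg_cancel, zpow_zero, one_mul]

end Std

end Groth.L13.Isoc
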