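import Groth.Agent.L13.Isoc.Lang
import Groth.Agent.S17153
import Mathlib.LinearAlgebra.Dimension.Constructions

/-! The Dieudonné–Manin decomposition. -/

set_option autoImplicit false

noncomputable section

open scoped Pointwise Isocrystal

universe u v

namespace Groth.L13.Isoc

variable {p : ℕ} [Fact p.Prime] {k : Type u} [Field k] [CharP k p] [PerfectRing k p]
variable {N : Type v} [AddCommGroup N] [Module (WittVector p k) N] [Module K(p, k) N]
  [IsScalarTower (WittVector p k) K(p, k) N]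
variable {a : ℤ} (F : N →ₛₗ[Isoc.frob p k a] N)

/-- The subspaces which are images of standard isocrystals. -/
def IsPiece (R : Submodule K(p, k) N) : Prop :=
  ∃ (d : ℤ) (h : ℕ) (φ : (Fin h → K(p, k)) →ₗ[K(p, k)] N), 0 < h ∧ Int.gcd d h = 1 ∧ Function.Injective φ ∧
    (∀ c, φ (Isoc.stdIsoc (Isoc.frob p k a) d h c) = F (φ c)) ∧ LinearMap.range φ = R

theorem isPiece_of_fixed {x : N} (hx : x ≠ 0) {d : ℤ} {h : ℕ} (hh : 0 < h) (hdh : Int.gcd d h = 1)
    (hfix : (⇑F)^[h] x = (p : K(p, k)) ^ d • x) : ∃ R, IsPiece F R ∧ x ∈ R := by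
  obtain ⟨m, rfl⟩ : ∃ m, h = m + 1 := ⟨h - 1, by omega⟩
  set φ := Fintype.linearCombination K(p, k) (fun i : Fin (m + 1) => (⇑F)^[(i : ℕ)] x) with hφ
  have hint : ∀ c, φ (Isoc.stdIsoc (Isoc.frob p k a) d (m + 1) c) = F (φ c) := by
    intro c
    simp only [hφ, Fintype.linearCombination_apply, map_sum, map_smulₛₗ]
    rw [← Equiv.sum_comp (finRotate (m + 1))]
    refine Finset.sum_congr rfl fun j _ => ?_
    rw [Isoc.stdIsoc_apply, Equiv.symm_apply_apply, ← Function.iterate_succ_apply' (⇑F), coe_finRotate]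
    by_cases hj : j = Fin.last m
    · subst hj
      rw [if_pos rfl, if_pos rfl, Fin.val_last, Function.iterate_zero_apply, Nat.succ_eq_add_one, hfix, smul_smul,
        mul_comm]
    · rw [if_neg hj, if_neg (Nat.succ_ne_zero _), one_mul]
  have h0 : φ (Pi.single 0 1) = x := by
    simp [hφ, Fintype.linearCombination_apply, Pi.single_apply]
  refine ⟨_, ⟨d, m + 1, φ, hh, hdh, ?_, hint, rfl⟩, ⟨_, h0⟩⟩
  have hst : ∀ c ∈ LinearMap.ker φ, Isoc.stdIsoc (Isoc.frob p k a) d (m + 1) c ∈ LinearMap.ker φ :=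
    fun c hc => by rw [LinearMap.mem_ker, hint, LinearMap.mem_ker.1 hc, map_zero]
  rcases Groth.Agent.S17153.result p k a d (m + 1) hh hdh _ hst with hb | ht
  · exact LinearMap.ker_eq_bot.1 hb
  · exfalso
    apply hx
    rw [← h0]
    exact LinearMap.mem_ker.1 (ht ▸ Submodule.mem_top)

variable [IsAlgClosed k] (hF : Isoc.IsIsoc F) (ha : a ≠ 0)
include hF ha

theorem slopePart_le_sSup_pieces (μ : ℚ) :
    Isoc.slopePart F μ ≤ sSup {R | IsPiece F R} := by
  haveI := hF.finite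
  set P := Isoc.slopePart F μ with hP
  by_cases hbot : P = ⊥
  · rw [hbot]; exact bot_le
  haveI : Nontrivial P := Submodule.nontrivial_iff_ne_bot.2 hbot
  obtain ⟨hst, hon, -⟩ := slopePart_spec F μ
  set F₁ := F.restrict hst with hF₁
  have hb : Function.Bijective F₁ := by
    refine ⟨fun x y hxy => Subtype.ext (hF.bijective.1 (congrArg Subtype.val hxy)), fun y => ?_⟩
    obtain ⟨x, hx, hxy⟩ := surjOn_of_stable F hF.bijective.1 hst y.2
    exact ⟨⟨x, hx⟩, Subtype.ext hxy⟩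
  obtain ⟨M₁, hM₁, r, s, hs, hrs, he⟩ := (isIsoclinic_restrict_iff F hst).2 hon
  have hslope := isFirstSlope_of_latImg_eq F₁ hb hM₁ hs he
  obtain ⟨M, hM, hle⟩ := exists_latImg_le_of_le F₁ hb hslope (r := μ.num) (s := μ.den) (le_of_eq (by
    have : ((r : ℝ) / s) = (μ : ℝ) := by rw [← hrs]; push_cast; rfl
    rw [this]
    exact_mod_cast (Rat.den_mul_eq_num μ).symm))
  let b := Module.finBasis K(p, k) P
  obtain ⟨e, hde⟩ := exists_detCoeff_ord F₁ b hb.2
  have h1 := mul_eq_of_latImg_eq F₁ b hde hM₁ he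
  have h2 : r * μ.den = μ.num * s := by
    rw [← μ.num_div_den, div_eq_div_iff (by exact_mod_cast hs.ne') (by exact_mod_cast μ.den_ne_zero)] at hrs
    exact_mod_cast hrs
  have heq := latImg_eq_of_le_of_det F₁ b hde hM hle (by
    refine mul_left_cancel₀ (a := (s : ℤ)) (by exact_mod_cast hs.ne') ?_
    linear_combination (μ.den : ℤ) * h1 - (Module.finrank K(p, k) P : ℤ) * h2)
  let G : P →ₛₗ[Isoc.frob p k (a * μ.den)] P :=
    { toFun := twist F₁ (-μ.num) μ.den
      map_add' := map_add _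
      map_smul' := fun c x => (map_smulₛₗ (twist F₁ (-μ.num) μ.den) c x).trans
        (congrArg (fun r : K(p, k) →+* K(p, k) => r c • (twist F₁ (-μ.num) μ.den) x) (frob_pow a μ.den)) }
  have hGb : Function.Bijective G := twist_bijective F₁ hb _ _
  have hGM : Isoc.latImg G 1 M = M := by
    show Isoc.latImg (twist F₁ (-μ.num) μ.den) 1 M = M
    rw [latImg_twist, Nat.cast_one, mul_one, mul_one, heq, pPow_pPow, neg_add_cancel, pPow_zero]
  have hspan := span_fixed_of_ne_zero (mul_ne_zero ha (by exact_mod_cast μ.den_ne_zero)) G hGb hM hGM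
  intro y hy
  have hmem : (⟨y, hy⟩ : P) ∈ Submodule.span K(p, k) {x | G x = x} := hspan ▸ Submodule.mem_top
  suffices H : ∀ z ∈ Submodule.span K(p, k) {x | G x = x}, (z : N) ∈ sSup {R | IsPiece F R} from H _ hmem
  intro z hz
  induction hz using Submodule.span_induction with
  | mem f hf =>
    by_cases hf0 : (f : N) = 0
    · rw [hf0]; exact zero_mem _
    have hf' : (p : K(p, k)) ^ (-μ.num) • ((⇑F₁)^[μ.den] f : P) = f := hf
    have hfix : (⇑F)^[μ.den] (f : N) = (p : K(p, k)) ^ μ.num • (f : N) := by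
      have h3 : (((⇑F₁)^[μ.den] f : P) : N) = (⇑F)^[μ.den] (f : N) :=
        map_iterate (F₁ := F₁) (F₂ := F) P.subtype (fun _ => rfl) _ _
      conv_rhs => rw [← hf', Submodule.coe_smul, smul_smul, ← zpow_add₀ pne, add_neg_cancel, zpow_zero, one_smul, h3]
    have hgcd : Int.gcd μ.num (μ.den : ℤ) = 1 := μ.reduced
    obtain ⟨R, hR, hfR⟩ := isPiece_of_fixed F hf0 μ.den_pos hgcd hfix
    exact le_sSup (s := {R | IsPiece F R}) hR hfR
  | zero => exact zero_mem _
  | add u w _ _ hu hw => rw [Submodule.coe_add]; exact add_mem hu hw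
  | smul t u _ hu => rw [Submodule.coe_smul]; exact Submodule.smul_mem _ _ hu

theorem sSup_pieces : sSup {R | IsPiece F R} = ⊤ := by
  haveI := hF.finite
  rw [eq_top_iff, ← (isInternal_slopePart F hF.bijective).submodule_iSup_eq_top]
  exact iSup_le (slopePart_le_sSup_pieces F hF ha)

theorem exists_compl_sum (Q : Submodule K(p, k) N) (hQ : ∀ x ∈ Q, F x ∈ Q) :
    ∃ (t : ℕ) (d : Fin t → ℤ) (h : Fin t → ℕ)
      (φ : ((i : Fin t) → (Fin (h i) → K(p, k))) →ₗ[K(p, k)] N),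
      (∀ i, 0 < h i ∧ Int.gcd (d i) (h i) = 1) ∧ Function.Injective φ ∧
      (∀ c, F (φ c) = φ (fun i => Isoc.stdIsoc (Isoc.frob p k a) (d i) (h i) (c i))) ∧
      IsCompl Q (LinearMap.range φ) := by
  haveI := hF.finite
  revert hQ
  induction Q using WellFoundedGT.induction
  rename_i Q ih
  intro hQ
  by_cases htop : Q = ⊤
  · refine ⟨0, Fin.elim0, Fin.elim0, 0, fun i => i.elim0, fun x y _ => funext fun i => i.elim0,
      fun c => by simp, ?_⟩
    rw [LinearMap.range_zero, htop]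
    exact isCompl_top_bot
  obtain ⟨R, ⟨d₀, h₀, φ₀, hh₀, hg₀, hinj₀, hint₀, rfl⟩, hRQ⟩ : ∃ R, IsPiece F R ∧ ¬ R ≤ Q := by
    by_contra hc
    push Not at hc
    exact htop (eq_top_iff.2 (sSup_pieces F hF ha ▸ sSup_le hc))
  have hdisj : Q.comap φ₀ = ⊥ := by
    rcases Groth.Agent.S17153.result p k a d₀ h₀ hh₀ hg₀ (Q.comap φ₀)
      (fun c hc => by rw [Submodule.mem_comap, hint₀]; exact hQ _ hc) with hb | ht
    · exact hb
    · exfalso; exact hRQ (LinearMap.range_le_iff_comap.2 ht)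
  set Q' := Q ⊔ LinearMap.range φ₀ with hQ'
  have hQ'st : ∀ x ∈ Q', F x ∈ Q' := by
    intro x hx
    obtain ⟨u, hu, w, ⟨c, rfl⟩, rfl⟩ := Submodule.mem_sup.1 hx
    rw [map_add, ← hint₀]
    exact Submodule.add_mem_sup (hQ u hu) ⟨_, rfl⟩
  have hlt : Q' > Q := left_lt_sup.2 hRQ
  obtain ⟨t, d, h, φ, hgood, hinj, hint, hcompl⟩ := ih Q' hlt hQ'st
  let φ' : ((i : Fin (t + 1)) → (Fin ((Fin.cons h₀ h : Fin (t + 1) → ℕ) i) → K(p, k))) →ₗ[K(p, k)] N :=
    { toFun := fun c => φ₀ (c 0) + φ (fun i => c i.succ)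
      map_add' := fun x y => by
        simp only [Pi.add_apply]
        rw [← add_add_add_comm, ← map_add, ← map_add]
        rfl
      map_smul' := fun s x => by
        simp only [Pi.smul_apply, RingHom.id_apply, smul_add]
        rw [← map_smul, ← map_smul]
        rfl }
  have hφ' : ∀ c, φ' c = φ₀ (c 0) + φ (fun i => c i.succ) := fun c => rfl
  have hz : ∀ c, φ' c ∈ Q → φ₀ (c 0) = 0 ∧ φ (fun i => c i.succ) = 0 := by
    intro c hc
    have h1 : φ (fun i => c i.succ) ∈ Q' := by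
      have := Q'.sub_mem (Submodule.mem_sup_left hc) (Submodule.mem_sup_right ⟨c 0, rfl⟩ : φ₀ (c 0) ∈ Q')
      rwa [hφ', add_sub_cancel_left] at this
    have h2 := Submodule.disjoint_def.1 hcompl.disjoint _ h1 ⟨_, rfl⟩
    rw [hφ', h2, add_zero] at hc
    have h3 : (c 0 : Fin h₀ → K(p, k)) = 0 :=
      (Submodule.eq_bot_iff _).1 hdisj (c 0) (Submodule.mem_comap.2 hc)
    exact ⟨(congrArg φ₀ h3).trans (map_zero φ₀), h2⟩
  refine ⟨t + 1, Fin.cons d₀ d, Fin.cons h₀ h, φ', Fin.cases ⟨hh₀, hg₀⟩ hgood, ?_, ?_, ?_⟩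
  · rw [injective_iff_map_eq_zero]
    intro c hc
    obtain ⟨h1, h2⟩ := hz c (hc ▸ Q.zero_mem)
    have e0 : c 0 = 0 := (map_eq_zero_iff φ₀ hinj₀).1 h1
    have es : (fun i : Fin t => c i.succ) = 0 := (map_eq_zero_iff φ hinj).1 h2
    funext i
    refine Fin.cases e0 (fun j => ?_) i
    exact congrFun es j
  · intro c
    rw [hφ', hφ', map_add, ← hint₀, hint]
    rfl
  · refine ⟨Submodule.disjoint_def.2 ?_, codisjoint_iff.2 (eq_top_iff.2 fun x _ => ?_)⟩
    · rintro _ hx ⟨c, rfl⟩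
      obtain ⟨h1, h2⟩ := hz c hx
      rw [hφ', h1, h2, add_zero]
    · obtain ⟨u, hu, w, ⟨c, rfl⟩, rfl⟩ := Submodule.mem_sup.1 (hcompl.sup_eq_top.symm ▸ Submodule.mem_top (x := x))
      obtain ⟨q, hq, w, ⟨c₀, rfl⟩, rfl⟩ := Submodule.mem_sup.1 hu
      rw [add_assoc]
      exact Submodule.add_mem_sup hq ⟨Fin.cons (α := fun i => Fin ((Fin.cons h₀ h : Fin (t + 1) → ℕ) i) → K(p, k)) c₀ c, rfl⟩

end Groth.L13.Isoc
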