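import Groth.Agent.L13.Isoc.Scalar
import Mathlib.LinearAlgebra.FiniteDimensional.Lemmas
import Mathlib.RingTheory.Noetherian.Basic

/-! `W`-submodules moved by `p`-powers and by semilinear maps. -/

set_option autoImplicit false

noncomputable section

open scoped Pointwise Isocrystal

universe u v w

namespace Groth.L13.Isoc

variable {p : ℕ} [Fact p.Prime] {k : Type u} [Field k] [CharP k p]
variable {N : Type v} [AddCommGroup N] [Module (WittVector p k) N] [Module K(p, k) N]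
  [IsScalarTower (WittVector p k) K(p, k) N]

local notation "W" => WittVector p k

theorem W_smul (w : W) (x : N) : w • x = iW (p := p) (k := k) w • x := (algebraMap_smul K(p, k) w x).symm

theorem pw_smul (r : ℤ) (w : W) (x : N) :
    (p : K(p, k)) ^ r • (w • x) = w • ((p : K(p, k)) ^ r • x) := by
  rw [W_smul, W_smul, smul_comm]

theorem mem_pPow {r : ℤ} {M : Submodule W N} {x : N} :
    x ∈ Isoc.pPow r M ↔ (p : K(p, k)) ^ (-r) • x ∈ M := by
  constructor
  · intro hx
    obtain ⟨y, hy, rfl⟩ := Submodule.mem_smul_pointwise_iff_exists _ _ _ |>.1 hx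
    rwa [smul_smul, ← zpow_add₀ pne, neg_add_cancel, zpow_zero, one_smul]
  · intro hx
    refine (Submodule.mem_smul_pointwise_iff_exists _ _ _).2 ⟨_, hx, ?_⟩
    rw [smul_smul, ← zpow_add₀ pne, add_neg_cancel, zpow_zero, one_smul]

theorem smul_mem_pPow {r : ℤ} {M : Submodule W N} {x : N} (hx : x ∈ M) :
    (p : K(p, k)) ^ r • x ∈ Isoc.pPow r M := by
  rwa [mem_pPow, smul_smul, ← zpow_add₀ pne, neg_add_cancel, zpow_zero, one_smul]

theorem pPow_mono (r : ℤ) {M M' : Submodule W N} (h : M ≤ M') : Isoc.pPow r M ≤ Isoc.pPow r M' := by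
  intro x hx
  rw [mem_pPow] at hx ⊢
  exact h hx

@[simp] theorem pPow_zero (M : Submodule W N) : Isoc.pPow 0 M = M := by
  ext x; simp [mem_pPow]

theorem pPow_pPow (r r' : ℤ) (M : Submodule W N) :
    Isoc.pPow r (Isoc.pPow r' M) = Isoc.pPow (r + r') M := by
  ext x
  rw [mem_pPow, mem_pPow, mem_pPow, smul_smul, ← zpow_add₀ pne]
  rw [show -r' + -r = -(r + r') by ring]

theorem inP_smul_mem {c : K(p, k)} {r : ℤ} (h : InP c r) {M : Submodule W N} {x : N} (hx : x ∈ M) :
    c • x ∈ Isoc.pPow r M := by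
  obtain ⟨w, rfl⟩ := h
  rw [mul_smul, ← W_smul]
  exact smul_mem_pPow (M.smul_mem w hx)

theorem pPow_anti {r r' : ℤ} (h : r' ≤ r) (M : Submodule W N) : Isoc.pPow r M ≤ Isoc.pPow r' M := by
  intro x hx
  have e : x = (p : K(p, k)) ^ r • ((p : K(p, k)) ^ (-r) • x) := by
    rw [smul_smul, ← zpow_add₀ pne, add_neg_cancel, zpow_zero, one_smul]
  rw [e]
  exact inP_smul_mem ((IsOrdP.inP (isOrdP_zpow r)).mono h) (mem_pPow.1 hx)

theorem pPow_le_pPow_iff (r : ℤ) {M M' : Submodule W N} :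
    Isoc.pPow r M ≤ Isoc.pPow r M' ↔ M ≤ M' := by
  refine ⟨fun h => ?_, pPow_mono r⟩
  have := pPow_mono (-r) h
  simpa [pPow_pPow] using this

theorem pPow_sup (r : ℤ) (M M' : Submodule W N) :
    Isoc.pPow r (M ⊔ M') = Isoc.pPow r M ⊔ Isoc.pPow r M' := by
  refine le_antisymm (fun x hx => ?_) (sup_le (pPow_mono r le_sup_left) (pPow_mono r le_sup_right))
  rw [mem_pPow, Submodule.mem_sup] at hx
  obtain ⟨a, ha, b, hb, hab⟩ := hx
  have : x = (p : K(p, k)) ^ r • (a + b) := by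
    rw [hab, smul_smul, ← zpow_add₀ pne, add_neg_cancel, zpow_zero, one_smul]
  rw [this, smul_add]
  exact Submodule.add_mem_sup (smul_mem_pPow ha) (smul_mem_pPow hb)

section Map
variable {τ : K(p, k) →+* K(p, k)} [hτ : IsGood τ] (F : N →ₛₗ[τ] N)

omit hτ in
theorem iterate_smul (n : ℕ) (c : K(p, k)) (x : N) : (⇑F)^[n] (c • x) = (τ ^ n) c • (⇑F)^[n] x :=
  map_smulₛₗ (Isoc.iter F n) c x

omit hτ in
theorem iterate_pw (n : ℕ) (r : ℤ) (x : N) :
    (⇑F)^[n] ((p : K(p, k)) ^ r • x) = (p : K(p, k)) ^ r • (⇑F)^[n] x := by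
  rw [iterate_smul, tau_zpow]

/-- The image of a `W`-submodule. -/
def imgSub (n : ℕ) (M : Submodule W N) : Submodule W N where
  carrier := (⇑F)^[n] '' (M : Set N)
  zero_mem' := ⟨0, M.zero_mem, iterate_map_zero F n⟩
  add_mem' := by
    rintro _ _ ⟨a, ha, rfl⟩ ⟨b, hb, rfl⟩
    exact ⟨a + b, add_mem ha hb, iterate_map_add F n a b⟩
  smul_mem' := by
    rintro w _ ⟨a, ha, rfl⟩
    obtain ⟨w', hw'⟩ := iW_eq_tau (τ := τ ^ n) w
    refine ⟨w' • a, M.smul_mem _ ha, ?_⟩
    rw [W_smul, iterate_smul, hw', ← W_smul]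

theorem latImg_eq (n : ℕ) (M : Submodule W N) : Isoc.latImg F n M = imgSub F n M :=
  Submodule.span_eq (imgSub F n M)

theorem mem_latImg {n : ℕ} {M : Submodule W N} {y : N} :
    y ∈ Isoc.latImg F n M ↔ ∃ x ∈ M, (⇑F)^[n] x = y := by
  rw [latImg_eq]; exact Iff.rfl

omit hτ in
theorem iterate_mem_latImg {n : ℕ} {M : Submodule W N} {x : N} (hx : x ∈ M) :
    (⇑F)^[n] x ∈ Isoc.latImg F n M := Submodule.subset_span ⟨x, hx, rfl⟩

omit hτ in
theorem latImg_le_iff {n : ℕ} {M M' : Submodule W N} :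
    Isoc.latImg F n M ≤ M' ↔ ∀ x ∈ M, (⇑F)^[n] x ∈ M' := by
  rw [Isoc.latImg, Submodule.span_le, Set.image_subset_iff]; rfl

omit hτ in
theorem latImg_mono (n : ℕ) {M M' : Submodule W N} (h : M ≤ M') :
    Isoc.latImg F n M ≤ Isoc.latImg F n M' :=
  Submodule.span_mono (Set.image_mono h)

omit hτ in
theorem latImg_zero (M : Submodule W N) : Isoc.latImg F 0 M = M := by
  simp [Isoc.latImg]

theorem latImg_add (m n : ℕ) (M : Submodule W N) :
    Isoc.latImg F (m + n) M = Isoc.latImg F m (Isoc.latImg F n M) := by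
  ext y
  simp only [mem_latImg]
  constructor
  · rintro ⟨x, hx, rfl⟩
    exact ⟨_, ⟨x, hx, rfl⟩, (Function.iterate_add_apply _ m n x).symm⟩
  · rintro ⟨_, ⟨x, hx, rfl⟩, rfl⟩
    exact ⟨x, hx, Function.iterate_add_apply _ m n x⟩

theorem latImg_pPow (n : ℕ) (r : ℤ) (M : Submodule W N) :
    Isoc.latImg F n (Isoc.pPow r M) = Isoc.pPow r (Isoc.latImg F n M) := by
  ext y
  rw [mem_pPow, mem_latImg, mem_latImg]
  constructor
  · rintro ⟨x, hx, rfl⟩
    exact ⟨_, mem_pPow.1 hx, iterate_pw F n _ x⟩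
  · rintro ⟨x, hx, hxy⟩
    refine ⟨_, smul_mem_pPow hx, ?_⟩
    rw [iterate_pw, hxy, smul_smul, ← zpow_add₀ pne, add_neg_cancel, zpow_zero, one_smul]

theorem latImg_sup (n : ℕ) (M M' : Submodule W N) :
    Isoc.latImg F n (M ⊔ M') = Isoc.latImg F n M ⊔ Isoc.latImg F n M' := by
  refine le_antisymm ?_ (sup_le (latImg_mono F n le_sup_left) (latImg_mono F n le_sup_right))
  rw [latImg_le_iff]
  intro x hx
  obtain ⟨a, ha, b, hb, rfl⟩ := Submodule.mem_sup.1 hx
  rw [iterate_map_add]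
  exact Submodule.add_mem_sup (iterate_mem_latImg F ha) (iterate_mem_latImg F hb)

omit hτ in
theorem latImg_le_latImg_iff (hF : Function.Injective F) [IsGood τ] (n : ℕ) {M M' : Submodule W N} :
    Isoc.latImg F n M ≤ Isoc.latImg F n M' ↔ M ≤ M' := by
  refine ⟨fun h x hx => ?_, latImg_mono F n⟩
  obtain ⟨x', hx', he⟩ := (mem_latImg F).1 (h (iterate_mem_latImg F hx))
  rwa [← (hF.iterate n) he]

theorem latImg_fg (n : ℕ) {M : Submodule W N} (hM : M.FG) : (Isoc.latImg F n M).FG := by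
  obtain ⟨s, hs⟩ := hM
  classical
  refine ⟨s.image ((⇑F)^[n]), ?_⟩
  refine le_antisymm ?_ ?_
  · rw [Submodule.span_le, Finset.coe_image]
    rintro _ ⟨x, hx, rfl⟩
    exact iterate_mem_latImg F (hs ▸ Submodule.subset_span hx)
  · rw [latImg_le_iff, ← hs]
    intro x hx
    induction hx using Submodule.span_induction with
    | mem x hx => exact Submodule.subset_span (by simp only [Finset.coe_image]; exact ⟨x, hx, rfl⟩)
    | zero => rw [iterate_map_zero]; exact zero_mem _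
    | add a b _ _ ha hb => rw [iterate_map_add]; exact add_mem ha hb
    | smul w a _ ha =>
      obtain ⟨w', hw'⟩ := tau_iW (τ := τ ^ n) w
      rw [W_smul, iterate_smul, hw', ← W_smul]
      exact Submodule.smul_mem _ _ ha

end Map

variable [PerfectRing k p]

theorem pPow_fg (r : ℤ) {M : Submodule W N} (hM : M.FG) : (Isoc.pPow r M).FG := by
  classical
  obtain ⟨s, rfl⟩ := hM
  refine ⟨s.image (fun x => (p : K(p, k)) ^ r • x), ?_⟩
  rw [Finset.coe_image, Set.image_smul, ← Submodule.smul_span]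
  rfl

theorem exists_pow_smul_mem {M : Submodule W N} {x : N}
    (hx : x ∈ Submodule.span K(p, k) (M : Set N)) : ∃ r : ℤ, x ∈ Isoc.pPow r M := by
  induction hx using Submodule.span_induction with
  | mem x hx => exact ⟨0, by rwa [pPow_zero]⟩
  | zero => exact ⟨0, zero_mem _⟩
  | add a b _ _ ha hb =>
    obtain ⟨r, hr⟩ := ha; obtain ⟨r', hr'⟩ := hb
    exact ⟨min r r', add_mem (pPow_anti (min_le_left r r') M hr) (pPow_anti (min_le_right r r') M hr')⟩
  | smul c a _ ha =>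
    obtain ⟨r, hr⟩ := ha
    obtain ⟨r', hr'⟩ := exists_inP c
    exact ⟨r' + r, by rw [← pPow_pPow]; exact inP_smul_mem hr' hr⟩

/-- Bounded submodules are absorbed by every submodule that spans them. -/
theorem exists_le_pPow {A M : Submodule W N} (hA : A.FG)
    (h : (A : Set N) ⊆ Submodule.span K(p, k) (M : Set N)) : ∃ r : ℤ, A ≤ Isoc.pPow r M := by
  classical
  obtain ⟨s, rfl⟩ := hA
  have h' : ∀ x ∈ s, ∃ r : ℤ, x ∈ Isoc.pPow r M := fun x hx =>
    exists_pow_smul_mem (h (Submodule.subset_span hx))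
  choose! f hf using h'
  refine ⟨-∑ x ∈ s, |f x|, Submodule.span_le.2 fun x hx => pPow_anti ?_ M (hf x hx)⟩
  have := Finset.single_le_sum (fun y _ => abs_nonneg (f y)) hx
  have := abs_le.1 (le_refl |f x|)
  omega

theorem mem_span_iff {M : Submodule W N} {x : N} :
    x ∈ Submodule.span K(p, k) (M : Set N) ↔ ∃ r : ℤ, x ∈ Isoc.pPow r M := by
  refine ⟨exists_pow_smul_mem, fun ⟨r, hr⟩ => ?_⟩
  have e : x = (p : K(p, k)) ^ r • ((p : K(p, k)) ^ (-r) • x) := by
    rw [smul_smul, ← zpow_add₀ pne, add_neg_cancel, zpow_zero, one_smul]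
  rw [e]
  exact Submodule.smul_mem _ _ (Submodule.subset_span (mem_pPow.1 hr))

theorem span_pPow (r : ℤ) (M : Submodule W N) :
    Submodule.span K(p, k) (Isoc.pPow r M : Set N) = Submodule.span K(p, k) (M : Set N) := by
  ext x
  simp only [mem_span_iff, pPow_pPow]
  exact ⟨fun ⟨a, ha⟩ => ⟨_, ha⟩, fun ⟨a, ha⟩ => ⟨a - r, by rwa [sub_add_cancel]⟩⟩

theorem isLattice_pPow (r : ℤ) {M : Submodule W N} (hM : M.IsLattice K(p, k)) :
    (Isoc.pPow r M).IsLattice K(p, k) :=
  ⟨pPow_fg r hM.fg, by rw [span_pPow]; exact hM.span_eq_top⟩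

theorem lattice_exists_le {A M : Submodule W N} (hA : A.FG) (hM : M.IsLattice K(p, k)) :
    ∃ r : ℤ, A ≤ Isoc.pPow r M :=
  exists_le_pPow hA (by rw [hM.span_eq_top]; exact fun _ _ => trivial)

theorem isLattice_of_le {A M M' : Submodule W N} (hM : M.IsLattice K(p, k)) (h : M ≤ A)
    (h' : A ≤ M') (hM' : M'.FG) : A.IsLattice K(p, k) := by
  refine ⟨?_, eq_top_iff.2 (hM.span_eq_top ▸ Submodule.span_mono h)⟩
  haveI : IsNoetherian W M' := isNoetherian_of_fg_of_noetherian M' hM'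
  haveI : IsNoetherian W A := isNoetherian_of_le h'
  exact Module.Finite.iff_fg.1 (Module.IsNoetherian.finite W A)

theorem fg_of_le {A M' : Submodule W N} (h' : A ≤ M') (hM' : M'.FG) : A.FG := by
  haveI : IsNoetherian W M' := isNoetherian_of_fg_of_noetherian M' hM'
  haveI : IsNoetherian W A := isNoetherian_of_le h'
  exact Module.Finite.iff_fg.1 (Module.IsNoetherian.finite W A)

theorem isLattice_latImg {τ : K(p, k) →+* K(p, k)} [IsGood τ] (F : N →ₛₗ[τ] N)
    (hF : Function.Surjective F) (n : ℕ) {M : Submodule W N} (hM : M.IsLattice K(p, k)) :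
    (Isoc.latImg F n M).IsLattice K(p, k) := by
  refine ⟨latImg_fg F n hM.fg, eq_top_iff.2 fun y _ => ?_⟩
  obtain ⟨x, rfl⟩ := hF.iterate n y
  obtain ⟨r, hr⟩ := exists_pow_smul_mem (M := M) (x := x) (by rw [hM.span_eq_top]; trivial)
  refine mem_span_iff.2 ⟨r, ?_⟩
  rw [← latImg_pPow]
  exact iterate_mem_latImg F hr

section Basis
variable {ι : Type*} [Fintype ι]

/-- Coordinates of elements of a lattice in a basis of the lattice are integral. -/
theorem mem_pPow_iff_repr {M : Submodule W N} (b : Module.Basis ι W M) (hM : M.IsLattice K(p, k))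
    {x : N} {r : ℤ} :
    x ∈ Isoc.pPow r M ↔ ∀ i, InP ((b.extendOfIsLattice K(p, k)).repr x i) r := by
  haveI := hM
  constructor
  · intro hx i
    rw [mem_pPow] at hx
    have hsum := congrArg Subtype.val (b.sum_repr ⟨_, hx⟩)
    simp only [Submodule.coe_sum, Submodule.coe_smul] at hsum
    have hx' : x = ∑ j, ((p : K(p, k)) ^ r * iW (b.repr ⟨_, hx⟩ j)) • (b.extendOfIsLattice K(p, k)) j := by
      simp only [Module.Basis.extendOfIsLattice_apply, mul_smul, ← W_smul, ← Finset.smul_sum, hsum,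
        smul_smul, ← zpow_add₀ (pne (p := p) (k := k)), add_neg_cancel, zpow_zero, one_smul]
    rw [hx', Module.Basis.repr_sum_self]
    exact ⟨_, rfl⟩
  · intro h
    rw [← (b.extendOfIsLattice K(p, k)).sum_repr x]
    refine sum_mem fun i _ => inP_smul_mem (h i) ?_
    rw [Module.Basis.extendOfIsLattice_apply]
    exact (b i).2

theorem exists_lattice_basis {M : Submodule W N} (hM : M.IsLattice K(p, k)) :
    ∃ (h : ℕ), Nonempty (Module.Basis (Fin h) W M) := by
  haveI := hM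
  exact ⟨_, ⟨(Module.Free.chooseBasis W M).reindex (Fintype.equivFin _)⟩⟩

theorem finrank_eq_of_basis {M : Submodule W N} (hM : M.IsLattice K(p, k)) {h : ℕ}
    (b : Module.Basis (Fin h) W M) : Module.finrank K(p, k) N = h := by
  haveI := hM
  rw [Module.finrank_eq_card_basis (b.extendOfIsLattice K(p, k)), Fintype.card_fin]

theorem eq_zero_of_forall_mem_pPow {M : Submodule W N} (hM : M.IsLattice K(p, k)) {x : N}
    (h : ∀ r : ℕ, x ∈ Isoc.pPow (r : ℤ) M) : x = 0 := by
  obtain ⟨n, ⟨b⟩⟩ := exists_lattice_basis hM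
  haveI := hM
  apply (b.extendOfIsLattice K(p, k)).repr.injective
  ext i
  rw [map_zero, Finsupp.zero_apply]
  by_contra hne
  obtain ⟨o, ho⟩ := exists_isOrdP hne
  have := IsOrdP.le ho ((mem_pPow_iff_repr b hM).1 (h (o + 1).toNat) i)
  omega

end Basis

theorem pPow_one_lt {M : Submodule W N} (hM : M.IsLattice K(p, k)) [Nontrivial N] (r : ℤ) :
    ¬ M ≤ Isoc.pPow r M ∨ r ≤ 0 := by
  by_contra hc
  push Not at hc
  obtain ⟨hle, hr⟩ := hc
  have h1 : M ≤ Isoc.pPow 1 M := hle.trans (pPow_anti (by omega) M)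
  have hall : ∀ n : ℕ, M ≤ Isoc.pPow (n : ℤ) M := by
    intro n
    induction n with
    | zero => simp
    | succ n ih =>
      have := h1.trans (pPow_mono 1 ih)
      rwa [pPow_pPow, add_comm (1 : ℤ)] at this
  obtain ⟨x, hx⟩ := exists_ne (0 : N)
  obtain ⟨a, ha⟩ := exists_pow_smul_mem (M := M) (x := x) (by rw [hM.span_eq_top]; trivial)
  rw [mem_pPow] at ha
  have h0 := eq_zero_of_forall_mem_pPow hM (x := (p : K(p, k)) ^ (-a) • x) (fun n => hall n ha)
  exact hx ((smul_eq_zero.1 h0).resolve_left (zpow_ne_zero _ pne))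

theorem le_zero_of_le_pPow {M : Submodule W N} (hM : M.IsLattice K(p, k)) [Nontrivial N] {r : ℤ}
    (h : M ≤ Isoc.pPow r M) : r ≤ 0 :=
  (pPow_one_lt hM r).resolve_left (not_not.2 h)

end Groth.L13.Isoc
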