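import Groth.Agent.L13.Isoc.Chain
import Groth.Agent.L13.Isoc.Lattice
import Mathlib.RingTheory.WittVector.Complete
import Mathlib.RingTheory.AdicCompletion.Basic

/-! Fitting decomposition of a lattice under an endomorphism with a good twist. -/

set_option autoImplicit false

noncomputable section

open scoped Pointwise Isocrystal

universe u v

namespace Groth.L13.Isoc

variable {p : ℕ} [Fact p.Prime] {k : Type u} [Field k] [CharP k p] [PerfectRing k p]
variable {N : Type v} [AddCommGroup N] [Module (WittVector p k) N] [Module K(p, k) N]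
  [IsScalarTower (WittVector p k) K(p, k) N]

local notation "W" => WittVector p k

theorem pow_p_smul (j : ℕ) (x : N) : ((p : W) ^ j) • x = (p : K(p, k)) ^ (j : ℤ) • x := by
  rw [W_smul, map_pow, iW_natCast, zpow_natCast]

theorem exists_limit {M : Submodule W N} (hM : M.IsLattice K(p, k)) (x : ℕ → N) (hx : ∀ j, x j ∈ M)
    (hcauchy : ∀ j : ℕ, x (j + 1) - x j ∈ Isoc.pPow (j : ℤ) M) :
    ∃ l ∈ M, ∀ j : ℕ, l - x j ∈ Isoc.pPow (j : ℤ) M := by
  obtain ⟨h, ⟨b⟩⟩ := exists_lattice_basis hM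
  have hstep : ∀ m n : ℕ, m ≤ n → x n - x m ∈ Isoc.pPow (m : ℤ) M := by
    intro m n hmn
    induction hmn with
    | refl => simp
    | @step n hmn ih =>
      have := add_mem (pPow_anti (by exact_mod_cast hmn) M (hcauchy n)) ih
      simpa using this
  have hdvd : ∀ (j : ℕ) (a c : M), (a : N) - c ∈ Isoc.pPow (j : ℤ) M →
      ∀ i, b.repr a i - b.repr c i ∈ (Ideal.span {(p : W)} ^ j • ⊤ : Submodule W W) := by
    intro j a c hac i
    rw [mem_pPow] at hac
    have e : a - c = ((p : W) ^ j) • (⟨_, hac⟩ : M) := Subtype.ext (by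
      rw [Submodule.coe_smul, pow_p_smul, smul_smul, ← zpow_add₀ pne, add_neg_cancel, zpow_zero, one_smul,
        Submodule.coe_sub])
    have := congrArg (fun z => b.repr z i) e
    simp only [map_sub, map_smul, Finsupp.sub_apply, Finsupp.smul_apply, smul_eq_mul] at this
    rw [this, Ideal.span_singleton_pow, smul_eq_mul, Ideal.mul_top, Ideal.mem_span_singleton]
    exact dvd_mul_right _ _
  have hlim : ∀ i, ∃ L : W, ∀ n, b.repr ⟨x n, hx n⟩ i ≡ L [SMOD (Ideal.span {(p : W)} ^ n • ⊤ : Submodule W W)] :=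
    fun i => IsPrecomplete.prec inferInstance fun {m n} hmn => by
      rw [SModEq.sub_mem, ← neg_mem_iff, neg_sub]
      exact hdvd m ⟨x n, hx n⟩ ⟨x m, hx m⟩ (hstep m n hmn) i
  choose L hL using hlim
  refine ⟨((∑ i, L i • b i : M) : N), Submodule.coe_mem _, fun j => ?_⟩
  have hj : ∀ i, ∃ w, L i - b.repr ⟨x j, hx j⟩ i = (p : W) ^ j * w := fun i => by
    have := hL i j
    rw [SModEq.sub_mem, ← neg_mem_iff, neg_sub, Ideal.span_singleton_pow, smul_eq_mul, Ideal.mul_top,
      Ideal.mem_span_singleton] at this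
    exact this
  choose w hw using hj
  have e : (∑ i, L i • b i : M) - ⟨x j, hx j⟩ = ((p : W) ^ j) • ∑ i, w i • b i := by
    conv_lhs => rw [← b.sum_repr ⟨x j, hx j⟩]
    rw [← Finset.sum_sub_distrib, Finset.smul_sum]
    refine Finset.sum_congr rfl fun i _ => ?_
    rw [← sub_smul, hw i, mul_smul]
  have e' := congrArg Subtype.val e
  rw [Submodule.coe_sub, Submodule.coe_smul, pow_p_smul] at e'
  rw [e']
  exact smul_mem_pPow (Submodule.coe_mem _)

variable {τ : K(p, k) →+* K(p, k)} [IsGood τ] (G : N →ₛₗ[τ] N) (hG : Function.Bijective G)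
variable {M : Submodule (WittVector p k) N} (hM : M.IsLattice K(p, k)) (hGM : Isoc.latImg G 1 M ≤ M)

include hG hM in
theorem mem_latImg_of_closed (n : ℕ) {x : N}
    (h : ∀ j : ℕ, ∃ y ∈ Isoc.latImg G n M, x - y ∈ Isoc.pPow (j : ℤ) M) : x ∈ Isoc.latImg G n M := by
  obtain ⟨c, hc⟩ := lattice_exists_le hM.fg (isLattice_latImg G hG.2 n hM)
  obtain ⟨y, hy, hxy⟩ := h c.natAbs
  have h1 : Isoc.pPow (c.natAbs : ℤ) M ≤ Isoc.latImg G n M := by
    refine (pPow_mono _ hc).trans ?_
    rw [pPow_pPow]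
    exact (pPow_anti (r' := 0) (by omega) _).trans (pPow_zero _).le
  simpa using add_mem hy (h1 hxy)

include hGM in
theorem latImg_antitone : Antitone fun n => Isoc.latImg G n M :=
  antitone_nat_of_succ_le fun n => by
    show Isoc.latImg G (n + 1) M ≤ Isoc.latImg G n M
    rw [latImg_add]; exact latImg_mono G n hGM

include hGM in
theorem latImg_le_self (n : ℕ) : Isoc.latImg G n M ≤ M :=
  (latImg_antitone G hGM (Nat.zero_le n)).trans (latImg_zero G M).le

/-- The part on which `G` is invertible. -/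
def unitPart (M : Submodule W N) : Submodule W N := ⨅ n : ℕ, Isoc.latImg G n M

omit [PerfectRing k p] [IsGood τ] in
theorem unitPart_le (M : Submodule W N) (n : ℕ) : unitPart G M ≤ Isoc.latImg G n M := iInf_le _ n

omit [PerfectRing k p] [IsGood τ] in
theorem unitPart_le_self (M : Submodule W N) : unitPart G M ≤ M :=
  (unitPart_le G M 0).trans (latImg_zero G M).le

include hG hGM in
theorem latImg_unitPart (n : ℕ) : Isoc.latImg G n (unitPart G M) = unitPart G M := by
  refine le_antisymm (le_iInf fun m => ?_) fun y hy => ?_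
  · refine (latImg_mono G n (unitPart_le G M m)).trans ?_
    rw [← latImg_add]
    exact latImg_antitone G hGM (Nat.le_add_left m n)
  · have hy' := fun m => (Submodule.mem_iInf _).1 hy (n + m)
    obtain ⟨x₀, hx₀, rfl⟩ := (mem_latImg G).1 (hy' 0)
    refine (mem_latImg G).2 ⟨x₀, (Submodule.mem_iInf _).2 fun m => ?_, rfl⟩
    have := hy' m
    rw [latImg_add] at this
    obtain ⟨z, hz, hze⟩ := (mem_latImg G).1 this
    rwa [← hG.1.iterate n hze]

include hM in
theorem unitPart_fg : (unitPart G M).FG := fg_of_le (unitPart_le_self G M) hM.fg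

include hG hM hGM in
theorem saturated {x : N} (hxM : x ∈ M)
    (hx : x ∈ Submodule.span K(p, k) (unitPart G M : Set N)) : x ∈ unitPart G M := by
  set U := unitPart G M with hU
  have hGU := fun n => latImg_unitPart G hG hGM n
  have hspanG : ∀ n : ℕ, ∀ y ∈ Submodule.span K(p, k) (U : Set N),
      (⇑G)^[n] y ∈ Submodule.span K(p, k) (U : Set N) := by
    intro n y hy
    obtain ⟨a, ha⟩ := mem_span_iff.1 hy
    refine mem_span_iff.2 ⟨a, ?_⟩
    have h := iterate_mem_latImg G (n := n) ha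
    rwa [latImg_pPow, hGU n] at h
  let V : Submodule W N := M ⊓ (Submodule.span K(p, k) (U : Set N)).restrictScalars W
  have hVfg : V.FG := fg_of_le inf_le_left hM.fg
  obtain ⟨a, ha⟩ := exists_le_pPow (M := U) hVfg (fun y hy => hy.2)
  let T : ℕ → Submodule W N := fun i =>
    { carrier := {y | y ∈ Isoc.pPow a U ∧ (⇑G)^[i] y ∈ V}
      zero_mem' := ⟨zero_mem _, by rw [iterate_map_zero]; exact zero_mem _⟩
      add_mem' := fun h1 h2 => ⟨add_mem h1.1 h2.1, by rw [iterate_map_add]; exact add_mem h1.2 h2.2⟩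
      smul_mem' := fun w y hy => ⟨Submodule.smul_mem _ w hy.1, by
        obtain ⟨w', hw'⟩ := tau_iW (τ := τ ^ i) w
        rw [W_smul, iterate_smul, hw', ← W_smul]
        exact Submodule.smul_mem _ _ hy.2⟩ }
  have hTmono : Monotone T := monotone_nat_of_le_succ fun i y hy => ⟨hy.1, by
    rw [Function.iterate_succ_apply']
    exact ⟨(latImg_le_iff G).1 hGM _ hy.2.1, hspanG 1 _ hy.2.2⟩⟩
  haveI : IsNoetherian W (Isoc.pPow a U) :=
    isNoetherian_of_fg_of_noetherian _ (pPow_fg a (unitPart_fg G hM))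
  obtain ⟨i, hi⟩ := monotone_stabilizes_iff_noetherian.2 (inferInstance : IsNoetherian W (Isoc.pPow a U))
    ⟨fun i => (T i).comap (Isoc.pPow a U).subtype, fun _ _ h => Submodule.comap_mono (hTmono h)⟩
  have hVle : V ≤ Isoc.latImg G 1 V := by
    intro v hv
    have : v ∈ Isoc.latImg G (i + 1) (Isoc.pPow a U) := by rw [latImg_pPow, hGU]; exact ha hv
    obtain ⟨y, hy, rfl⟩ := (mem_latImg G).1 this
    have hyT : y ∈ T (i + 1) := ⟨hy, hv⟩
    have hyT' : (⟨y, hy⟩ : Isoc.pPow a U) ∈ (T i).comap (Isoc.pPow a U).subtype := by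
      have h2 := hi (i + 1) (Nat.le_succ i)
      exact (SetLike.ext_iff.1 h2 ⟨y, hy⟩).2 hyT
    rw [Function.iterate_succ_apply']
    exact (mem_latImg G).2 ⟨_, hyT'.2, rfl⟩
  have hVn : ∀ n, V ≤ Isoc.latImg G n M := by
    intro n
    induction n with
    | zero => rw [latImg_zero]; exact inf_le_left
    | succ n ih =>
      rw [add_comm n, latImg_add]
      exact hVle.trans (latImg_mono G 1 ih)
  exact (Submodule.mem_iInf _).2 fun n => hVn n ⟨hxM, hx⟩

include hG hM hGM in
theorem inf_pPow_le (j : ℕ) : unitPart G M ⊓ Isoc.pPow (j : ℤ) M ≤ Isoc.pPow (j : ℤ) (unitPart G M) := by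
  rintro x ⟨hxU, hxp⟩
  replace hxp := mem_pPow.1 hxp
  rw [mem_pPow]
  exact saturated G hG hM hGM hxp (Submodule.smul_mem _ _ (Submodule.subset_span hxU))

include hGM in
theorem stable_mod {h : ℕ} (b : Module.Basis (Fin h) W M) (j m : ℕ) :
    Isoc.latImg G (j * h) M ≤ Isoc.latImg G (j * h + m) M ⊔ Isoc.pPow (j : ℤ) M := by
  have hle := latImg_le_self G hGM
  have hB : ∀ m, Isoc.latImg G h M ≤ Isoc.latImg G (h + m) M ⊔ Isoc.pPow 1 M := by
    let R : ℕ → Submodule W N := fun i => Isoc.latImg G i M ⊔ Isoc.pPow 1 M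
    have hR : Antitone R := fun a c hac => sup_le_sup_right (latImg_antitone G hGM hac) _
    have hpM : Isoc.pPow 1 M ≤ M := (pPow_anti (by norm_num) M).trans (pPow_zero M).le
    obtain ⟨q, hq, he⟩ := chain_stable b (fun q => R (h + 1 - q)) (fun a c hac => hR (by omega))
      le_sup_right (fun q => sup_le (hle _) hpM)
    obtain ⟨i, hi, he⟩ : ∃ i ≤ h, R i = R (i + 1) :=
      ⟨h - q, by omega, by
        rw [show h + 1 - (q + 1) = h - q by omega, show h + 1 - q = h - q + 1 by omega] at he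
        exact he⟩
    have hinv : ∀ m, R i ≤ R (i + m) := by
      intro m
      induction m with
      | zero => exact le_rfl
      | succ m ih =>
        rw [he]
        refine sup_le ?_ le_sup_right
        have h2 := latImg_mono G 1 (le_sup_left.trans ih)
        rw [← latImg_add, latImg_sup, ← latImg_add, latImg_pPow, show 1 + i = i + 1 by ring,
          show 1 + (i + m) = i + (m + 1) by ring] at h2
        exact h2.trans (sup_le_sup le_rfl (pPow_mono 1 hGM))
    intro m
    have h1 := (hR hi).trans (hinv (h + m - i))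
    rw [show i + (h + m - i) = h + m by omega] at h1
    exact le_sup_left.trans h1
  induction j generalizing m with
  | zero => rw [Nat.cast_zero, pPow_zero]; exact (hle _).trans le_sup_right
  | succ j ih =>
    have step : Isoc.latImg G ((j + 1) * h) M ≤
        Isoc.latImg G ((j + 1) * h + m) M ⊔ Isoc.pPow (j : ℤ) (Isoc.latImg G h M) := by
      have h1 := latImg_mono G h (ih m)
      rw [← latImg_add, latImg_sup, ← latImg_add, latImg_pPow] at h1
      rw [show (j + 1) * h = h + j * h by ring, show h + j * h + m = h + (j * h + m) by ring]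
      exact h1
    refine step.trans (sup_le le_sup_left ?_)
    refine (pPow_mono _ (hB (j * h + m))).trans ?_
    rw [pPow_sup, pPow_pPow, show ((j + 1) * h + m) = h + (j * h + m) by ring]
    refine sup_le ?_ (le_sup_of_le_right (le_of_eq (by push_cast; rfl)))
    exact le_sup_of_le_left ((pPow_anti (by positivity) _).trans (pPow_zero _).le)

include hG hM hGM in
theorem lift_unit {h : ℕ} (b : Module.Basis (Fin h) W M) (j : ℕ) {x : N} (hx : x ∈ Isoc.latImg G (j * h) M) :
    ∃ u ∈ unitPart G M, x - u ∈ Isoc.pPow (j : ℤ) M := by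
  have hch : ∀ i : ℕ, ∀ y ∈ Isoc.latImg G ((j + i) * h) M, ∃ y' ∈ Isoc.latImg G ((j + i + 1) * h) M,
      y - y' ∈ Isoc.pPow ((j + i : ℕ) : ℤ) M := by
    intro i y hy
    have := stable_mod G hGM b (j + i) h hy
    obtain ⟨y', hy', z, hz, rfl⟩ := Submodule.mem_sup.1 this
    exact ⟨y', by rwa [show (j + i + 1) * h = (j + i) * h + h by ring], by simpa using hz⟩
  choose nxt hnxt hnxt' using hch
  let seq : (i : ℕ) → {y : N // y ∈ Isoc.latImg G ((j + i) * h) M} := fun i =>
    Nat.rec ⟨x, hx⟩ (fun i prev => ⟨nxt i prev.1 prev.2, hnxt i prev.1 prev.2⟩) i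
  let zz : ℕ → N := fun i => (seq i).1
  let z : ℕ → N := fun i => zz (i - j)
  obtain ⟨l, hlM, hl⟩ := exists_limit hM z (fun i => latImg_le_self G hGM _ (seq (i - j)).2) (fun i => by
    rcases Nat.lt_or_ge i j with hlt | hge
    · show zz (i + 1 - j) - zz (i - j) ∈ Isoc.pPow (i : ℤ) M
      rw [show i + 1 - j = 0 by omega, show i - j = 0 by omega, sub_self]
      exact zero_mem _
    · obtain ⟨d, rfl⟩ := Nat.exists_eq_add_of_le hge
      show zz (j + d + 1 - j) - zz (j + d - j) ∈ _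
      rw [show j + d + 1 - j = d + 1 by omega, show j + d - j = d by omega]
      have := hnxt' d (seq d).1 (seq d).2
      rw [← neg_mem_iff, neg_sub]
      exact this)
  refine ⟨l, (Submodule.mem_iInf _).2 fun n => mem_latImg_of_closed G hG hM n fun e => ?_, ?_⟩
  · by_cases hh : h = 0
    · subst hh
      refine ⟨0, zero_mem _, ?_⟩
      have : (⟨l, hlM⟩ : M) = 0 := by
        apply b.repr.injective; ext i; exact i.elim0
      rw [sub_zero, show l = 0 from congrArg Subtype.val this]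
      exact zero_mem _
    · refine ⟨z (j + e + n), latImg_antitone G hGM ?_ (seq (j + e + n - j)).2,
        pPow_anti (by push_cast; omega) M (hl _)⟩
      have : 1 ≤ h := Nat.one_le_iff_ne_zero.2 hh
      show n ≤ (j + (j + e + n - j)) * h
      calc n ≤ j + (j + e + n - j) := by omega
        _ ≤ (j + (j + e + n - j)) * h := Nat.le_mul_of_pos_right _ (by omega)
  · have := hl j
    rw [show z j = zz 0 from congrArg zz (Nat.sub_self j)] at this
    rw [← neg_mem_iff, neg_sub]
    exact this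

/-- The part on which `G` is topologically nilpotent. -/
def nilSub (M : Submodule W N) : Submodule W N where
  carrier := {x | x ∈ M ∧ ∀ j : ℕ, ∃ n0, ∀ n, n0 ≤ n → (⇑G)^[n] x ∈ Isoc.pPow (j : ℤ) M}
  zero_mem' := ⟨zero_mem _, fun j => ⟨0, fun n _ => by rw [iterate_map_zero]; exact zero_mem _⟩⟩
  add_mem' := by
    rintro a c ⟨ha, ha'⟩ ⟨hc, hc'⟩
    refine ⟨add_mem ha hc, fun j => ?_⟩
    obtain ⟨n1, h1⟩ := ha' j
    obtain ⟨n2, h2⟩ := hc' j
    exact ⟨max n1 n2, fun n hn => by
      rw [iterate_map_add]; exact add_mem (h1 n (by omega)) (h2 n (by omega))⟩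
  smul_mem' := by
    rintro w a ⟨ha, ha'⟩
    refine ⟨Submodule.smul_mem _ w ha, fun j => ?_⟩
    obtain ⟨n1, h1⟩ := ha' j
    refine ⟨n1, fun n hn => ?_⟩
    obtain ⟨w', hw'⟩ := tau_iW (τ := τ ^ n) w
    rw [W_smul, iterate_smul, hw', ← W_smul]
    exact Submodule.smul_mem _ _ (h1 n hn)

include hGM in
theorem pPow_iterate_mem {j n0 : ℕ} {x : N} (hx : (⇑G)^[n0] x ∈ Isoc.pPow (j : ℤ) M) {n : ℕ} (hn : n0 ≤ n) :
    (⇑G)^[n] x ∈ Isoc.pPow (j : ℤ) M := by
  obtain ⟨d, rfl⟩ := Nat.exists_eq_add_of_le hn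
  rw [add_comm, Function.iterate_add_apply]
  have := iterate_mem_latImg G (n := d) hx
  rw [latImg_pPow] at this
  exact pPow_mono _ (latImg_le_self G hGM d) this

include hG hM hGM in
theorem unit_inf_nil {x : N} (hU : x ∈ unitPart G M) (hN : x ∈ nilSub G M) : x = 0 := by
  refine eq_zero_of_forall_mem_pPow hM fun j => ?_
  obtain ⟨n, hn⟩ := hN.2 j
  have h1 : (⇑G)^[n] x ∈ unitPart G M := latImg_unitPart G hG hGM n ▸ iterate_mem_latImg G hU
  have h2 := inf_pPow_le G hG hM hGM j ⟨h1, hn n le_rfl⟩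
  rw [← latImg_unitPart G hG hGM n, ← latImg_pPow] at h2
  obtain ⟨y, hy, hye⟩ := (mem_latImg G).1 h2
  rw [← hG.1.iterate n hye]
  exact pPow_mono _ (unitPart_le_self G M) hy

include hG hM hGM in
theorem le_unit_sup_nil : M ≤ unitPart G M ⊔ nilSub G M := by
  intro x hx
  obtain ⟨h, ⟨b⟩⟩ := exists_lattice_basis hM
  have hu : ∀ j : ℕ, ∃ u ∈ unitPart G M, (⇑G)^[j * h] x - (⇑G)^[j * h] u ∈ Isoc.pPow (j : ℤ) M := by
    intro j
    obtain ⟨v, hv, hxv⟩ := lift_unit G hG hM hGM b j (iterate_mem_latImg G hx)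
    rw [← latImg_unitPart G hG hGM (j * h)] at hv
    obtain ⟨u, hu, rfl⟩ := (mem_latImg G).1 hv
    exact ⟨u, hu, hxv⟩
  choose u huU hu' using hu
  obtain ⟨l, hlM, hl⟩ := exists_limit hM u (fun j => unitPart_le_self G M (huU j)) (fun j => by
    have h1 : (⇑G)^[(j + 1) * h] (x - u (j + 1)) ∈ Isoc.pPow (j : ℤ) M := by
      rw [iterate_map_sub]
      exact pPow_anti (by push_cast; omega) M (hu' (j + 1))
    have h2 : (⇑G)^[(j + 1) * h] (x - u j) ∈ Isoc.pPow (j : ℤ) M :=
      pPow_iterate_mem G hGM (n0 := j * h) (by rw [iterate_map_sub]; exact hu' j)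
        (Nat.mul_le_mul_right h (Nat.le_succ j))
    have h3 := sub_mem h2 h1
    rw [← iterate_map_sub, sub_sub_sub_cancel_left] at h3
    have hmem : (⇑G)^[(j + 1) * h] (u (j + 1) - u j) ∈ unitPart G M :=
      latImg_unitPart G hG hGM ((j + 1) * h) ▸ iterate_mem_latImg G (sub_mem (huU _) (huU _))
    have h4 := inf_pPow_le G hG hM hGM j ⟨hmem, h3⟩
    rw [← latImg_unitPart G hG hGM ((j + 1) * h), ← latImg_pPow] at h4
    obtain ⟨y, hy, hye⟩ := (mem_latImg G).1 h4
    rw [← hG.1.iterate _ hye]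
    exact pPow_mono _ (unitPart_le_self G M) hy)
  have hlU : l ∈ unitPart G M := (Submodule.mem_iInf _).2 fun n =>
    mem_latImg_of_closed G hG hM n fun j => ⟨u j, unitPart_le G M n (huU j), hl j⟩
  refine Submodule.mem_sup.2 ⟨l, hlU, x - l, ⟨sub_mem hx hlM, fun j => ⟨j * h, fun n hn => ?_⟩⟩, by abel⟩
  refine pPow_iterate_mem G hGM (n0 := j * h) ?_ hn
  have h1 : (⇑G)^[j * h] (l - u j) ∈ Isoc.pPow (j : ℤ) M :=
    pPow_iterate_mem G hGM (n0 := 0) (hl j) (Nat.zero_le _)
  have := sub_mem (hu' j) h1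
  rwa [← iterate_map_sub, ← iterate_map_sub, sub_sub_sub_cancel_right] at this

include hM hGM in
theorem exists_latImg_le_of_nil (h : M ≤ nilSub G M) : ∃ n, Isoc.latImg G n M ≤ Isoc.pPow 1 M := by
  obtain ⟨s, hs⟩ := hM.fg
  have hmem : ∀ x ∈ s, ∃ n0, ∀ n, n0 ≤ n → (⇑G)^[n] x ∈ Isoc.pPow ((1 : ℕ) : ℤ) M := fun x hx =>
    (h (hs ▸ Submodule.subset_span hx)).2 1
  choose! f hf using hmem
  refine ⟨s.sup f, (latImg_le_iff G).2 fun x hx => ?_⟩
  rw [← hs] at hx
  rw [show (1 : ℤ) = ((1 : ℕ) : ℤ) by norm_num]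
  induction hx using Submodule.span_induction with
  | mem x hx => exact hf x hx _ (Finset.le_sup (f := f) hx)
  | zero => rw [iterate_map_zero]; exact zero_mem _
  | add a c _ _ ha hc => rw [iterate_map_add]; exact add_mem ha hc
  | smul w a _ ha =>
    obtain ⟨w', hw'⟩ := tau_iW (τ := τ ^ s.sup f) w
    rw [W_smul, iterate_smul, hw', ← W_smul]
    exact Submodule.smul_mem _ _ ha

end Groth.L13.Isoc
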