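import Groth.Agent.L13.Isoc.Ord
import Mathlib.LinearAlgebra.FiniteDimensional.Lemmas
import Mathlib.LinearAlgebra.Dimension.OrzechProperty

/-! Isoclinic subspaces of an isocrystal. -/

set_option autoImplicit false

noncomputable section

open scoped Pointwise Isocrystal

universe u v w

namespace Groth.L13.Isoc

variable {p : ℕ} [Fact p.Prime] {k : Type u} [Field k] [CharP k p]

section Map
variable {N₁ : Type v} [AddCommGroup N₁] [Module (WittVector p k) N₁] [Module K(p, k) N₁]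
  [IsScalarTower (WittVector p k) K(p, k) N₁]
variable {N₂ : Type w} [AddCommGroup N₂] [Module (WittVector p k) N₂] [Module K(p, k) N₂]
  [IsScalarTower (WittVector p k) K(p, k) N₂]
variable {τ : K(p, k) →+* K(p, k)} {F₁ : N₁ →ₛₗ[τ] N₁} {F₂ : N₂ →ₛₗ[τ] N₂}
  (f : N₁ →ₗ[K(p, k)] N₂)

theorem map_iterate (hf : ∀ x, f (F₁ x) = F₂ (f x)) (n : ℕ) (x : N₁) :
    f ((⇑F₁)^[n] x) = (⇑F₂)^[n] (f x) := by
  induction n generalizing x with
  | zero => rfl
  | succ n ih => rw [Function.iterate_succ_apply, ih, hf, Function.iterate_succ_apply]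

/-- The image of a `W`-submodule. -/
abbrev wmap (A : Submodule (WittVector p k) N₁) : Submodule (WittVector p k) N₂ :=
  A.map (f.restrictScalars (WittVector p k))

theorem wmap_pPow (r : ℤ) (A : Submodule (WittVector p k) N₁) :
    wmap f (Isoc.pPow r A) = Isoc.pPow r (wmap f A) := by
  ext y
  rw [mem_pPow]
  constructor
  · rintro ⟨x, hx, rfl⟩
    exact ⟨_, mem_pPow.1 hx, map_smul f _ x⟩
  · rintro ⟨x, hx, hxy⟩
    refine ⟨_, smul_mem_pPow hx, ?_⟩
    simp only [LinearMap.coe_restrictScalars] at hxy ⊢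
    rw [map_smul, hxy, smul_smul, ← zpow_add₀ pne, add_neg_cancel, zpow_zero, one_smul]

theorem wmap_latImg [IsGood τ] (hf : ∀ x, f (F₁ x) = F₂ (f x)) (n : ℕ) (A : Submodule (WittVector p k) N₁) :
    wmap f (Isoc.latImg F₁ n A) = Isoc.latImg F₂ n (wmap f A) := by
  ext y
  rw [Submodule.mem_map, mem_latImg]
  constructor
  · rintro ⟨z, hz, rfl⟩
    obtain ⟨x, hx, rfl⟩ := (mem_latImg F₁).1 hz
    exact ⟨f x, Submodule.mem_map_of_mem (f := f.restrictScalars (WittVector p k)) hx,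
      (map_iterate f hf n x).symm⟩
  · rintro ⟨_, ⟨x, hx, rfl⟩, rfl⟩
    exact ⟨_, iterate_mem_latImg F₁ hx, map_iterate f hf n x⟩

theorem span_wmap (A : Submodule (WittVector p k) N₁) :
    Submodule.span K(p, k) (wmap f A : Set N₂) = (Submodule.span K(p, k) (A : Set N₁)).map f := by
  rw [Submodule.map_span, wmap, Submodule.map_coe, LinearMap.coe_restrictScalars]

end Map

variable {N : Type v} [AddCommGroup N] [Module (WittVector p k) N] [Module K(p, k) N]
  [IsScalarTower (WittVector p k) K(p, k) N]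
variable {τ : K(p, k) →+* K(p, k)} (F : N →ₛₗ[τ] N)

local notation "W" => WittVector p k

/-- The subspace `P` carries a lattice which is isoclinic of slope `μ` for `F`. -/
def OnSub (P : Submodule K(p, k) N) (μ : ℚ) : Prop :=
  ∃ (A : Submodule W N) (r : ℤ) (s : ℕ), 0 < s ∧ (r : ℚ) / s = μ ∧ A.FG ∧
    Submodule.span K(p, k) (A : Set N) = P ∧ Isoc.latImg F s A = Isoc.pPow r A

theorem isIsoclinic_iff_onSub_top {μ : ℚ} : Isoc.IsIsoclinic F μ ↔ OnSub F ⊤ μ :=
  ⟨fun ⟨A, hA, r, s, hs, hμ, he⟩ => ⟨A, r, s, hs, hμ, hA.fg, hA.span_eq_top, he⟩,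
    fun ⟨A, r, s, hs, hμ, h1, h2, he⟩ => ⟨A, ⟨h1, h2⟩, r, s, hs, hμ, he⟩⟩

variable [IsGood τ]

theorem OnSub.map {N₂ : Type w} [AddCommGroup N₂] [Module W N₂] [Module K(p, k) N₂]
    [IsScalarTower W K(p, k) N₂] {F₂ : N₂ →ₛₗ[τ] N₂} (f : N →ₗ[K(p, k)] N₂)
    (hf : ∀ x, f (F x) = F₂ (f x)) {P : Submodule K(p, k) N} {μ : ℚ} (h : OnSub F P μ) :
    OnSub F₂ (P.map f) μ := by
  obtain ⟨A, r, s, hs, hμ, hfg, hsp, he⟩ := h
  exact ⟨wmap f A, r, s, hs, hμ, hfg.map _, by rw [span_wmap, hsp],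
    by rw [← wmap_latImg f hf, he, wmap_pPow]⟩

theorem isIsoclinic_restrict_iff {P : Submodule K(p, k) N} (hP : ∀ x ∈ P, F x ∈ P) {μ : ℚ} :
    Isoc.IsIsoclinic (F.restrict hP) μ ↔ OnSub F P μ := by
  rw [isIsoclinic_iff_onSub_top]
  constructor
  · intro h
    have := OnSub.map (F.restrict hP) (F₂ := F) P.subtype (fun x => rfl) h
    rwa [Submodule.map_top, Submodule.range_subtype] at this
  · rintro ⟨A, r, s, hs, hμ, hfg, hsp, he⟩
    have hAP : ∀ x ∈ A, x ∈ P := fun x hx => hsp ▸ Submodule.subset_span hx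
    have hmap : wmap P.subtype (A.comap (P.subtype.restrictScalars W)) = A := by
      refine le_antisymm (Submodule.map_comap_le _ _) fun x hx => ?_
      exact ⟨⟨x, hAP x hx⟩, hx, rfl⟩
    have hinj : Function.Injective (P.subtype.restrictScalars W) := Subtype.val_injective
    refine ⟨A.comap (P.subtype.restrictScalars W), r, s, hs, hμ, ?_, ?_, ?_⟩
    · exact Submodule.fg_of_fg_map_injective (P.subtype.restrictScalars W) hinj (by rwa [show Submodule.map _ _ = A from hmap])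
    · apply Submodule.map_injective_of_injective (f := P.subtype) Subtype.val_injective
      rw [← span_wmap, hmap, hsp, Submodule.map_top, Submodule.range_subtype]
    · apply Submodule.map_injective_of_injective (f := P.subtype.restrictScalars W) hinj
      show wmap P.subtype _ = wmap P.subtype _
      rw [wmap_latImg (F₁ := F.restrict hP) (F₂ := F) P.subtype (fun x => rfl), wmap_pPow, hmap, he]

theorem onSub_bot (μ : ℚ) : OnSub F ⊥ μ := by
  refine ⟨⊥, μ.num, μ.den, μ.den_pos, μ.num_div_den, Submodule.fg_bot, by simp, ?_⟩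
  refine le_antisymm ?_ (fun x hx => ?_)
  · rw [latImg_le_iff]; intro x hx; rw [Submodule.mem_bot] at hx; rw [hx, iterate_map_zero]; exact zero_mem _
  · rw [mem_pPow, Submodule.mem_bot, smul_eq_zero] at hx
    rcases hx with h | h
    · exact absurd h (zpow_ne_zero _ pne)
    · rw [h]; exact zero_mem _

variable [PerfectRing k p]

theorem OnSub.sup {P Q : Submodule K(p, k) N} {μ : ℚ} (hP : OnSub F P μ) (hQ : OnSub F Q μ) :
    OnSub F (P ⊔ Q) μ := by
  obtain ⟨A, r, s, hs, hμ, hfg, hsp, he⟩ := hP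
  obtain ⟨A', r', s', hs', hμ', hfg', hsp', he'⟩ := hQ
  have hrs : r * s' = r' * s := by
    have h := hμ.trans hμ'.symm
    rw [div_eq_div_iff (by exact_mod_cast hs.ne') (by exact_mod_cast hs'.ne')] at h
    exact_mod_cast h
  refine ⟨A ⊔ A', r * s', s * s', Nat.mul_pos hs hs', ?_, hfg.sup hfg', ?_, ?_⟩
  · rw [← hμ]; push_cast
    rw [mul_div_mul_right]; exact_mod_cast hs'.ne'
  · rw [← hsp, ← hsp', ← Submodule.span_union]
    refine le_antisymm (Submodule.span_le.2 fun x hx => ?_) (Submodule.span_mono ?_)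
    · obtain ⟨a, ha, b, hb, rfl⟩ := Submodule.mem_sup.1 hx
      exact add_mem (Submodule.subset_span (Or.inl ha)) (Submodule.subset_span (Or.inr hb))
    · rintro x (hx | hx)
      exacts [Submodule.mem_sup_left hx, Submodule.mem_sup_right hx]
  · rw [latImg_sup, pPow_sup, latImg_mul_eq F he s', hrs, mul_comm s s', latImg_mul_eq F he' s]

theorem exists_lattice [Module.Finite K(p, k) N] : ∃ M : Submodule W N, M.IsLattice K(p, k) := by
  refine ⟨Submodule.span W (Set.range (Module.finBasis K(p, k) N)), Submodule.fg_span (Set.finite_range _), ?_⟩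
  exact eq_top_iff.2 ((Module.finBasis K(p, k) N).span_eq.symm.le.trans (Submodule.span_mono Submodule.subset_span))

variable (hF : Function.Injective F) [Module.Finite K(p, k) N]
include hF

/-- Two isoclinic lattices of different slopes meet trivially. -/
theorem eq_bot_of_slope_ne {A M : Submodule W N} {s : ℕ} {r r' : ℤ} (hA : A.FG) (hM : M.FG)
    (hAM : (A : Set N) ⊆ Submodule.span K(p, k) (M : Set N))
    (heA : Isoc.latImg F s A = Isoc.pPow r A) (heM : Isoc.latImg F s M = Isoc.pPow r' M) (hne : r ≠ r') :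
    A = ⊥ := by
  obtain ⟨c, hc⟩ := exists_le_pPow hA hAM
  obtain ⟨M₀, hM₀⟩ := exists_lattice (p := p) (k := k) (N := N)
  have hlat : (M ⊔ M₀).IsLattice K(p, k) :=
    ⟨hM.sup hM₀.fg, eq_top_iff.2 (hM₀.span_eq_top ▸ Submodule.span_mono (fun x hx => Submodule.mem_sup_right hx))⟩
  have key : ∀ j : ℕ, A ≤ Isoc.pPow (c + |r' - r| * j) M := by
    intro j
    have h1 := latImg_mono F (s * j) hc
    rw [latImg_mul_eq F heA, latImg_pPow, latImg_mul_eq F heM, pPow_pPow] at h1
    rcases le_total r r' with hle | hle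
    · have h2 := pPow_mono (-(r * j)) h1
      rw [pPow_pPow, pPow_pPow, neg_add_cancel, pPow_zero] at h2
      rw [abs_of_nonneg (by omega : 0 ≤ r' - r), show c + (r' - r) * (j : ℤ) = -(r * j) + (c + r' * j) by ring]
      exact h2
    · rw [abs_of_nonpos (by omega : r' - r ≤ 0)]
      refine (latImg_le_latImg_iff F hF (s * j)).1 ?_
      have h2 : Isoc.pPow (r * j) A ≤ Isoc.pPow (r * j + c) M := by
        rw [← pPow_pPow]; exact pPow_mono _ hc
      rw [latImg_mul_eq F heA, latImg_pPow, latImg_mul_eq F heM, pPow_pPow,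
        show c + -(r' - r) * (j : ℤ) + r' * j = r * j + c by ring]
      exact h2
  rw [eq_bot_iff]
  intro x hx
  rw [Submodule.mem_bot]
  refine eq_zero_of_forall_mem_pPow hlat fun n => ?_
  have hm := key (n + c.natAbs) hx
  refine pPow_mono _ le_sup_left (pPow_anti ?_ M hm)
  have h1 : 1 ≤ |r' - r| := Int.one_le_abs (by omega)
  have : ((n + c.natAbs : ℕ) : ℤ) ≤ |r' - r| * ((n + c.natAbs : ℕ) : ℤ) := by nlinarith
  generalize |r' - r| * ((n + c.natAbs : ℕ) : ℤ) = g at this ⊢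
  omega

theorem surjOn_of_stable {Q : Submodule K(p, k) N} (hQ : ∀ x ∈ Q, F x ∈ Q) {y : N} (hy : y ∈ Q) :
    ∃ x ∈ Q, F x = y := by
  let b := Module.finBasis K(p, k) Q
  let g : Fin (Module.finrank K(p, k) Q) → Q := fun i => ⟨F (b i : N), hQ _ (b i).2⟩
  have hg : LinearIndependent K(p, k) g := by
    rw [Fintype.linearIndependent_iff]
    intro c hc
    choose d hd using fun i => tau_surjective (τ := τ) (c i)
    have h0 : F (∑ i, d i • b i : Q) = 0 := by
      have := congrArg Subtype.val hc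
      simp only [Submodule.coe_sum, Submodule.coe_smul, g, Submodule.coe_zero] at this
      simp only [Submodule.coe_sum, Submodule.coe_smul, map_sum, map_smulₛₗ, hd]
      exact this
    have h1 : (∑ i, d i • b i : Q) = 0 := Subtype.ext (hF (h0.trans (map_zero F).symm))
    intro i
    rw [← hd i, Fintype.linearIndependent_iff.1 b.linearIndependent d h1 i, map_zero]
  have hspan : Submodule.span K(p, k) (Set.range g) = ⊤ :=
    hg.span_eq_top_of_card_eq_finrank' (by simp)
  obtain ⟨c, hc⟩ := Submodule.mem_span_range_iff_exists_fun K(p, k) |>.1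
    (show (⟨y, hy⟩ : Q) ∈ Submodule.span K(p, k) (Set.range g) by rw [hspan]; trivial)
  choose d hd using fun i => tau_surjective (τ := τ) (c i)
  refine ⟨((∑ i, d i • b i : Q) : N), Submodule.coe_mem _, ?_⟩
  have := congrArg Subtype.val hc
  simp only [Submodule.coe_sum, Submodule.coe_smul, g] at this
  simp only [Submodule.coe_sum, Submodule.coe_smul, map_sum, map_smulₛₗ, hd]
  exact this

theorem OnSub.inter {P Q : Submodule K(p, k) N} {μ : ℚ} (hP : OnSub F P μ) (hQ : ∀ x ∈ Q, F x ∈ Q)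
    (hle : Q ≤ P) : OnSub F Q μ := by
  obtain ⟨A, r, s, hs, hμ, hfg, hsp, he⟩ := hP
  refine ⟨A ⊓ Q.restrictScalars W, r, s, hs, hμ, fg_of_le inf_le_left hfg, ?_, ?_⟩
  · refine le_antisymm (Submodule.span_le.2 fun x hx => hx.2) fun x hx => ?_
    obtain ⟨a, ha⟩ := exists_pow_smul_mem (M := A) (x := x) (hsp.symm ▸ hle hx)
    exact mem_span_iff.2 ⟨a, mem_pPow.2 ⟨mem_pPow.1 ha, Q.smul_mem _ hx⟩⟩
  · have hit : ∀ (n : ℕ), ∀ x ∈ Q, (⇑F)^[n] x ∈ Q := fun n => by
      induction n with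
      | zero => exact fun x hx => hx
      | succ n ih => intro x hx; rw [Function.iterate_succ_apply]; exact ih _ (hQ x hx)
    have hsur : ∀ (n : ℕ), ∀ y ∈ Q, ∃ x ∈ Q, (⇑F)^[n] x = y := fun n => by
      induction n with
      | zero => exact fun y hy => ⟨y, hy, rfl⟩
      | succ n ih =>
        intro y hy
        obtain ⟨z, hz, rfl⟩ := surjOn_of_stable F hF hQ hy
        obtain ⟨x, hx, rfl⟩ := ih z hz
        exact ⟨x, hx, Function.iterate_succ_apply' _ _ _⟩
    ext y
    rw [mem_latImg, mem_pPow]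
    constructor
    · rintro ⟨x, hx, rfl⟩
      exact ⟨mem_pPow.1 (he ▸ iterate_mem_latImg F hx.1), Q.smul_mem _ (hit s x hx.2)⟩
    · rintro ⟨hyA, hyQ⟩
      obtain ⟨x, hxA, hxy⟩ := (mem_latImg F).1 (he.symm ▸ mem_pPow.2 hyA)
      have hyQ' : y ∈ Q := by
        have h := Q.smul_mem ((p : K(p, k)) ^ r) hyQ
        rwa [smul_smul, ← zpow_add₀ pne, add_neg_cancel, zpow_zero, one_smul] at h
      obtain ⟨x', hx', hx'y⟩ := hsur s y hyQ'
      have hxx : x = x' := (hF.iterate s) (hxy.trans hx'y.symm)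
      exact ⟨x, ⟨hxA, hxx ▸ hx'⟩, hxy⟩

theorem OnSub.eq_bot_of_ne {P Q : Submodule K(p, k) N} {μ ν : ℚ} (hP : OnSub F P μ) (hQ : OnSub F Q ν)
    (hle : P ≤ Q) (hne : μ ≠ ν) : P = ⊥ := by
  obtain ⟨A, r, s, hs, hμ, hfg, hsp, he⟩ := hP
  obtain ⟨A', r', s', hs', hν, hfg', hsp', he'⟩ := hQ
  have hne' : r * s' ≠ r' * s := fun h => hne (by
    rw [← hμ, ← hν, div_eq_div_iff (by exact_mod_cast hs.ne') (by exact_mod_cast hs'.ne')]
    exact_mod_cast h)
  have := eq_bot_of_slope_ne F hF (A := A) (M := A') (s := s * s') hfg hfg'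
    (fun x hx => hsp' ▸ hle (hsp ▸ Submodule.subset_span hx)) (latImg_mul_eq F he s')
    (by rw [mul_comm s s']; exact latImg_mul_eq F he' s) hne'
  rw [← hsp, this]; simp

omit hF in
theorem slopePart_spec (μ : ℚ) :
    (∀ x ∈ Isoc.slopePart F μ, F x ∈ Isoc.slopePart F μ) ∧ OnSub F (Isoc.slopePart F μ) μ ∧
      ∀ P : Submodule K(p, k) N, (∀ x ∈ P, F x ∈ P) → OnSub F P μ → P ≤ Isoc.slopePart F μ := by
  have hle : ∀ P : Submodule K(p, k) N, (∀ x ∈ P, F x ∈ P) → OnSub F P μ → P ≤ Isoc.slopePart F μ :=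
    fun P hP h => le_sSup ⟨hP, (isIsoclinic_restrict_iff F hP).2 h⟩
  let S : Set (Submodule K(p, k) N) := {P | (∀ x ∈ P, F x ∈ P) ∧ OnSub F P μ}
  obtain ⟨P, ⟨hP, hPon⟩, hmax⟩ := wellFounded_gt.has_min S ⟨⊥, fun x hx => by simp_all, onSub_bot F μ⟩
  have hPeq : Isoc.slopePart F μ = P := by
    refine le_antisymm (sSup_le fun Q ⟨hQ, hQiso⟩ => ?_) (hle P hP hPon)
    have hmem : P ⊔ Q ∈ S := by
      refine ⟨fun x hx => ?_, hPon.sup F ((isIsoclinic_restrict_iff F hQ).1 hQiso)⟩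
      obtain ⟨a, ha, b, hb, rfl⟩ := Submodule.mem_sup.1 hx
      rw [map_add]
      exact Submodule.add_mem_sup (hP a ha) (hQ b hb)
    by_contra hnot
    exact hmax _ hmem (lt_of_le_of_ne le_sup_left fun e => hnot (e ▸ le_sup_right))
  exact ⟨hPeq ▸ hP, hPeq ▸ hPon, hle⟩

end Groth.L13.Isoc
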