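import Groth.Agent.L13.Isoc.Slope
import Groth.Agent.L13.Isoc.Isoclinic
import Groth.Agent.L13.Isoc.Fitting
import Mathlib.Algebra.DirectSum.Module
import Mathlib.LinearAlgebra.Dimension.StrongRankCondition

/-! The slope decomposition of an isocrystal. -/

set_option autoImplicit false

noncomputable section

open scoped Pointwise Isocrystal

universe u v

namespace Groth.L13.Isoc

variable {p : ℕ} [Fact p.Prime] {k : Type u} [Field k] [CharP k p] [PerfectRing k p]
variable {N : Type v} [AddCommGroup N] [Module (WittVector p k) N] [Module K(p, k) N]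
  [IsScalarTower (WittVector p k) K(p, k) N]
variable {τ : K(p, k) →+* K(p, k)} [IsGood τ] (F : N →ₛₗ[τ] N) (hF : Function.Bijective F)
include hF

theorem exists_step [Module.Finite K(p, k) N] [Nontrivial N] :
    ∃ (μ : ℚ) (P R : Submodule K(p, k) N), (∀ x ∈ P, F x ∈ P) ∧ (∀ x ∈ R, F x ∈ R) ∧
      OnSub F P μ ∧ P ≠ ⊥ ∧ Disjoint P R ∧ P ⊔ R = ⊤ := by
  obtain ⟨M₀, hM₀⟩ := exists_lattice (p := p) (k := k) (N := N)
  obtain ⟨lam, hlam⟩ := exists_isFirstSlope F hF hM₀
  obtain ⟨r, s, M, hs, -, hlameq, hM, hle, hord⟩ := exists_rational F hF hlam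
  have hGb := twist_bijective F hF (-r) s
  have hGslope := isFirstSlope_twist F hF hlam (-r) s
  have hlat1 : ∀ (n : ℕ), Isoc.latImg (twist F (-r) s) n M = Isoc.pPow (-r * n) (Isoc.latImg F (s * n) M) :=
    fun n => latImg_twist F (-r) s n M
  have hcomm : ∀ (n : ℕ) (x : N), (⇑(twist F (-r) s))^[n] (F x) = F ((⇑(twist F (-r) s))^[n] x) := by
    intro n x
    rw [twist_iterate, twist_iterate, map_smulₛₗ, tau_zpow, ← Function.iterate_succ_apply,
      Function.iterate_succ_apply']
  have hFG : ∀ (n : ℕ) (A : Submodule (WittVector p k) N),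
      Isoc.latImg F 1 (Isoc.latImg (twist F (-r) s) n A) = Isoc.latImg (twist F (-r) s) n (Isoc.latImg F 1 A) := by
    intro n A
    rw [latImg_twist, latImg_twist, latImg_pPow, ← latImg_add, ← latImg_add, add_comm 1]
  set G := twist F (-r) s with hGdef
  have hGM : Isoc.latImg G 1 M ≤ M := by
    rw [hlat1, Nat.cast_one, mul_one, mul_one]
    have := pPow_mono (-r) hle
    rwa [pPow_pPow, neg_add_cancel, pPow_zero] at this
  have hnil : ¬ ∃ n, Isoc.latImg G n M ≤ Isoc.pPow 1 M := by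
    rintro ⟨n, hn⟩
    obtain ⟨-, o, ho, -, hbound⟩ := IsFirstSlope.spec G hGb hGslope hM
    have h1 : (1 : ℤ) ≤ o n := (ho n 1).1 hn
    have h2 := hbound n
    have hz : (s : ℝ) * lam + ((-r : ℤ) : ℝ) = 0 := by
      rw [hlameq]; push_cast; field_simp; ring
    rw [hz, mul_zero] at h2
    have : (1 : ℝ) ≤ o n := by exact_mod_cast h1
    linarith
  set U := unitPart G M with hUdef
  set Z := nilSub G M with hZdef
  obtain ⟨c, hc⟩ := lattice_exists_le (isLattice_latImg F hF.2 1 hM).fg hM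
  have hFc : ∀ x ∈ M, F x ∈ Isoc.pPow c M := fun x hx => hc (iterate_mem_latImg F (n := 1) hx)
  have hspanU : ∀ x ∈ Submodule.span K(p, k) (U : Set N), F x ∈ Submodule.span K(p, k) (U : Set N) := by
    intro x hx
    obtain ⟨a, ha⟩ := mem_span_iff.1 hx
    have hfix : ∀ n, Isoc.latImg G n (Isoc.latImg F 1 U) = Isoc.latImg F 1 U := fun n => by
      rw [← hFG, latImg_unitPart G hGb hGM]
    have hFU : Isoc.latImg F 1 U ≤ Isoc.pPow c U := fun y hy => by
      rw [mem_pPow]
      refine (Submodule.mem_iInf _).2 fun n => ?_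
      rw [← mem_pPow, ← latImg_pPow]
      rw [← hfix n] at hy
      exact latImg_mono G n ((latImg_mono F 1 (unitPart_le_self G M)).trans hc) hy
    refine mem_span_iff.2 ⟨a + c, ?_⟩
    rw [← pPow_pPow]
    refine pPow_mono a hFU ?_
    rw [← latImg_pPow]
    exact iterate_mem_latImg F (n := 1) ha
  have hspanZ : ∀ x ∈ Submodule.span K(p, k) (Z : Set N), F x ∈ Submodule.span K(p, k) (Z : Set N) := by
    intro x hx
    obtain ⟨a, ha⟩ := mem_span_iff.1 hx
    rw [mem_pPow] at ha
    refine mem_span_iff.2 ⟨a + c, mem_pPow.2 ?_⟩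
    have e : (p : K(p, k)) ^ (-(a + c)) • F x = (p : K(p, k)) ^ (-c) • F ((p : K(p, k)) ^ (-a) • x) := by
      rw [map_smulₛₗ, tau_zpow, smul_smul, ← zpow_add₀ pne]
      congr 2; ring
    rw [e]
    set z := (p : K(p, k)) ^ (-a) • x
    refine ⟨mem_pPow.1 (hFc z ha.1), fun j => ?_⟩
    obtain ⟨n0, hn0⟩ := ha.2 j
    refine ⟨n0, fun n hn => ?_⟩
    rw [iterate_pw, hcomm]
    have h1 : F ((⇑G)^[n] z) ∈ Isoc.latImg F 1 (Isoc.pPow (j : ℤ) M) := iterate_mem_latImg F (n := 1) (hn0 n hn)
    rw [latImg_pPow] at h1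
    have h2 := smul_mem_pPow (r := -c) (pPow_mono _ hc h1)
    rwa [pPow_pPow, pPow_pPow, show -c + (j : ℤ) + c = j by ring] at h2
  refine ⟨(r : ℚ) / s, Submodule.span K(p, k) (U : Set N), Submodule.span K(p, k) (Z : Set N), hspanU, hspanZ,
    ⟨U, r, s, hs, rfl, unitPart_fg G hM, rfl, ?_⟩, ?_, ?_, ?_⟩
  · have h1 := latImg_unitPart G hGb hGM 1
    rw [← hUdef, hGdef, latImg_twist, Nat.cast_one, mul_one, mul_one] at h1
    have h2 := congrArg (Isoc.pPow r) h1
    rwa [pPow_pPow, add_neg_cancel, pPow_zero] at h2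
  · intro hbot
    apply hnil
    refine exists_latImg_le_of_nil G hM hGM fun x hx => ?_
    obtain ⟨u, hu, z, hz, rfl⟩ := Submodule.mem_sup.1 (le_unit_sup_nil G hGb hM hGM hx)
    have : u = 0 := by
      have h0 : u ∈ Submodule.span K(p, k) (U : Set N) := Submodule.subset_span hu
      rwa [hbot, Submodule.mem_bot] at h0
    rw [this, zero_add]; exact hz
  · rw [Submodule.disjoint_def]
    intro x hx hx'
    obtain ⟨a, ha⟩ := mem_span_iff.1 hx
    obtain ⟨b, hb⟩ := mem_span_iff.1 hx'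
    have h1 := mem_pPow.1 (pPow_anti (min_le_left a b) U ha)
    have h2 := mem_pPow.1 (pPow_anti (min_le_right a b) Z hb)
    exact (smul_eq_zero.1 (unit_inf_nil G hGb hM hGM h1 h2)).resolve_left (zpow_ne_zero _ pne)
  · rw [eq_top_iff, ← hM.span_eq_top, Submodule.span_le]
    intro x hx
    obtain ⟨u, hu, z, hz, rfl⟩ := Submodule.mem_sup.1 (le_unit_sup_nil G hGb hM hGM hx)
    exact Submodule.add_mem_sup (Submodule.subset_span hu) (Submodule.subset_span hz)

theorem le_iSup_slopePart [Module.Finite K(p, k) N] (R : Submodule K(p, k) N) (hR : ∀ x ∈ R, F x ∈ R) :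
    R ≤ ⨆ μ : ℚ, Isoc.slopePart F μ := by
  induction hd : Module.finrank K(p, k) R using Nat.strong_induction_on generalizing R with
  | _ d ih =>
    rcases subsingleton_or_nontrivial R with hsub | hnt
    · intro x hx
      have : (⟨x, hx⟩ : R) = 0 := Subsingleton.elim _ _
      rw [show x = 0 from congrArg Subtype.val this]; exact zero_mem _
    have hb : Function.Bijective (F.restrict hR) :=
      ⟨fun a b h => Subtype.ext (hF.1 (congrArg Subtype.val h)), fun y => by
        obtain ⟨x, hx, hxy⟩ := surjOn_of_stable F hF.1 hR y.2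
        exact ⟨⟨x, hx⟩, Subtype.ext hxy⟩⟩
    obtain ⟨μ, P, Q, hP, hQ, hPμ, hP0, hdisj, hsup⟩ := exists_step (F.restrict hR) hb
    have hP' : ∀ x ∈ P.map R.subtype, F x ∈ P.map R.subtype := by
      rintro _ ⟨x, hx, rfl⟩; exact ⟨_, hP x hx, rfl⟩
    have hQ' : ∀ x ∈ Q.map R.subtype, F x ∈ Q.map R.subtype := by
      rintro _ ⟨x, hx, rfl⟩; exact ⟨_, hQ x hx, rfl⟩
    have h1 : P.map R.subtype ≤ ⨆ μ : ℚ, Isoc.slopePart F μ :=
      ((slopePart_spec F μ).2.2 _ hP' (OnSub.map (F.restrict hR) R.subtype (fun _ => rfl) hPμ)).trans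
        (le_iSup (fun μ => Isoc.slopePart F μ) μ)
    have hlt : Module.finrank K(p, k) (Q.map R.subtype) < d := by
      rw [Submodule.finrank_map_subtype_eq, ← hd]
      refine Submodule.finrank_lt (lt_top_iff_ne_top.2 fun htop => hP0 ?_).ne
      rw [htop, disjoint_top] at hdisj
      exact hdisj
    have h2 := ih _ hlt _ hQ' rfl
    intro x hx
    obtain ⟨a, ha, b, hb', hab⟩ := Submodule.mem_sup.1 (hsup.symm ▸ Submodule.mem_top : (⟨x, hx⟩ : R) ∈ P ⊔ Q)
    rw [show x = (a : N) + b from (congrArg Subtype.val hab).symm]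
    exact add_mem (h1 ⟨a, ha, rfl⟩) (h2 ⟨b, hb', rfl⟩)

theorem inf_finsetSup_eq_bot [Module.Finite K(p, k) N] (S : Finset ℚ) {μ : ℚ} (hμ : μ ∉ S)
    (X : Submodule K(p, k) N) (hX : ∀ x ∈ X, F x ∈ X) (hXμ : OnSub F X μ)
    (hle : X ≤ S.sup (fun ν => Isoc.slopePart F ν)) : X = ⊥ := by
  induction S using Finset.induction_on generalizing X with
  | empty => simpa using hle
  | insert ν S hν ih =>
    rw [Finset.mem_insert, not_or] at hμ
    rw [Finset.sup_insert] at hle
    set R := S.sup (fun ν => Isoc.slopePart F ν) with hR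
    have hRst : ∀ x ∈ R, F x ∈ R := by
      have : R ≤ R.comap F := by
        refine Finset.sup_le fun ν' hν' x hx => ?_
        exact Finset.le_sup (f := fun ν => Isoc.slopePart F ν) hν' ((slopePart_spec F ν').1 x hx)
      exact fun x hx => this hx
    refine ih hμ.2 X hX hXμ ?_
    let Fq : (N ⧸ R) →ₛₗ[τ] (N ⧸ R) := R.mapQ R F hRst
    have hinj : Function.Injective Fq := by
      rw [injective_iff_map_eq_zero]
      intro q hq
      obtain ⟨x, rfl⟩ := Submodule.Quotient.mk_surjective R q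
      have hFx : F x ∈ R := (Submodule.Quotient.mk_eq_zero R).1 hq
      obtain ⟨y, hy, hyx⟩ := surjOn_of_stable F hF.1 hRst hFx
      rw [Submodule.Quotient.mk_eq_zero, ← hF.1 hyx]; exact hy
    have hXimg := OnSub.map F (F₂ := Fq) R.mkQ (fun _ => rfl) hXμ
    have hνimg := OnSub.map F (F₂ := Fq) R.mkQ (fun _ => rfl) (slopePart_spec F ν).2.1
    have hle' : X.map R.mkQ ≤ (Isoc.slopePart F ν).map R.mkQ := by
      refine (Submodule.map_mono hle).trans ?_
      rw [Submodule.map_sup, Submodule.mkQ_map_self, sup_bot_eq]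
    have := OnSub.eq_bot_of_ne Fq hinj hXimg hνimg hle' hμ.1
    intro x hx
    have h0 : R.mkQ x = 0 := by
      rw [← Submodule.mem_bot K(p, k), ← this]; exact Submodule.mem_map_of_mem hx
    simpa using h0

theorem iSupIndep_slopePart [Module.Finite K(p, k) N] :
    iSupIndep (fun μ : ℚ => Isoc.slopePart F μ) := by
  intro μ
  rw [disjoint_iff]
  haveI : IsNoetherian K(p, k) N := inferInstance
  by_contra hne
  obtain ⟨x, hx, hx0⟩ := Submodule.exists_mem_ne_zero_of_ne_bot hne
  have hxsup : x ∈ ⨆ i : {ν : ℚ // ν ≠ μ}, Isoc.slopePart F i.1 := by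
    rw [iSup_subtype]; exact hx.2
  obtain ⟨s, hs⟩ := Submodule.exists_finset_of_mem_iSup _ hxsup
  let S : Finset ℚ := s.map ⟨fun i => i.1, Subtype.val_injective⟩
  have hμS : μ ∉ S := by simp [S]
  let X := Isoc.slopePart F μ ⊓ S.sup (fun ν => Isoc.slopePart F ν)
  have hXst : ∀ y ∈ X, F y ∈ X := by
    have h2 : S.sup (fun ν => Isoc.slopePart F ν) ≤ (S.sup (fun ν => Isoc.slopePart F ν)).comap F := by
      refine Finset.sup_le fun ν' hν' y hy => ?_
      exact Finset.le_sup (f := fun ν => Isoc.slopePart F ν) hν' ((slopePart_spec F ν').1 y hy)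
    exact fun y hy => ⟨(slopePart_spec F μ).1 y hy.1, h2 hy.2⟩
  have hbot := inf_finsetSup_eq_bot F hF S hμS X hXst
    (OnSub.inter F hF.1 (slopePart_spec F μ).2.1 hXst inf_le_left) inf_le_right
  refine hx0 ((Submodule.mem_bot K(p, k)).1 (hbot ▸ ⟨hx.1, ?_⟩))
  refine (iSup₂_le fun i hi => ?_ : (⨆ i ∈ s, Isoc.slopePart F (i : {ν : ℚ // ν ≠ μ}).1) ≤ _) hs
  exact Finset.le_sup (f := fun ν => Isoc.slopePart F ν) (Finset.mem_map.2 ⟨i, hi, rfl⟩)

theorem isInternal_slopePart [Module.Finite K(p, k) N] :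
    DirectSum.IsInternal (fun μ : ℚ => Isoc.slopePart F μ) :=
  DirectSum.isInternal_submodule_of_iSupIndep_of_iSup_eq_top (iSupIndep_slopePart F hF)
    (eq_top_iff.2 (le_iSup_slopePart F hF ⊤ fun _ _ => trivial))

theorem sum_newtonMult_eq [Module.Finite K(p, k) N] {h : ℕ} (b : Module.Basis (Fin h) K(p, k) N) {d : ℤ}
    (hd : Isoc.IsOrdP (Isoc.detCoeff b F) d) : ∑ᶠ μ : ℚ, μ * (Isoc.newtonMult F μ : ℚ) = d := by
  classical
  have hint := isInternal_slopePart F hF
  have hindep := iSupIndep_slopePart F hF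
  have hfin : {μ : ℚ | Isoc.slopePart F μ ≠ ⊥}.Finite := WellFoundedGT.finite_ne_bot_of_iSupIndep hindep
  set T := hfin.toFinset with hT
  -- the pieces and their lattices
  have hex : ∀ μ : T, Isoc.IsIsoclinic (F.restrict (slopePart_spec F μ.1).1) μ.1 := fun μ =>
    (isIsoclinic_restrict_iff F _).2 (slopePart_spec F μ.1).2.1
  choose A hA r s hs hrs hAeq using hex
  choose n cb using fun μ => exists_lattice_basis (hA μ)
  let c : ∀ μ : T, Module.Basis (Fin (n μ)) (WittVector p k) (A μ) := fun μ => (cb μ).some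
  let eP : ∀ μ : T, Module.Basis (Fin (n μ)) K(p, k) (Isoc.slopePart F μ.1) := fun μ =>
    haveI := hA μ
    (c μ).extendOfIsLattice K(p, k)
  have hint' : DirectSum.IsInternal (fun μ : T => Isoc.slopePart F μ.1) := by
    refine DirectSum.isInternal_submodule_of_iSupIndep_of_iSup_eq_top
      (hindep.comp Subtype.val_injective) ?_
    rw [eq_top_iff, ← hint.submodule_iSup_eq_top]
    refine iSup_le fun μ => ?_
    by_cases hμ : Isoc.slopePart F μ = ⊥
    · rw [hμ]; exact bot_le
    · exact le_iSup (fun μ : T => Isoc.slopePart F μ.1) ⟨μ, hfin.mem_toFinset.2 hμ⟩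
  let e₀ := hint'.collectedBasis eP
  have hcard : Fintype.card ((μ : T) × Fin (n μ)) = h := by
    rw [← Module.finrank_eq_card_basis e₀, Module.finrank_eq_card_basis b, Fintype.card_fin]
  let ψ := Fintype.equivFinOfCardEq hcard
  let e := e₀.reindex ψ
  have he₀ : ∀ a : (μ : T) × Fin (n μ), e₀ a = ((eP a.1 a.2 : Isoc.slopePart F a.1.1) : N) := fun a =>
    congrFun (hint'.collectedBasis_coe eP) a
  -- a common exponent
  let S0 : ℕ := ∏ μ : T, s μ
  have hS0 : 0 < S0 := Finset.prod_pos fun μ _ => hs μ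
  let R : T → ℤ := fun μ => r μ * (∏ ν ∈ (Finset.univ : Finset T).erase μ, s ν : ℕ)
  have hSμ : ∀ μ : T, S0 = s μ * ∏ ν ∈ (Finset.univ : Finset T).erase μ, s ν := fun μ =>
    (Finset.mul_prod_erase _ _ (Finset.mem_univ μ)).symm
  have hpiece : ∀ μ : T, Isoc.latImg (F.restrict (slopePart_spec F μ.1).1) S0 (A μ) = Isoc.pPow (R μ) (A μ) :=
    fun μ => by rw [hSμ μ]; exact latImg_mul_eq _ (hAeq μ) _
  have hR : ∀ μ : T, (R μ : ℚ) = (S0 : ℚ) * μ.1 := fun μ => by
    conv_rhs => rw [hSμ μ, ← hrs μ]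
    simp only [R]
    have : (s μ : ℚ) ≠ 0 := by exact_mod_cast (hs μ).ne'
    push_cast; field_simp
  let y : Fin h → N := fun j => (p : K(p, k)) ^ (-R (ψ.symm j).1) • (⇑F)^[S0] (e j)
  have hej : ∀ j, e j = ((eP (ψ.symm j).1 (ψ.symm j).2 : Isoc.slopePart F (ψ.symm j).1.1) : N) := fun j => by
    rw [Module.Basis.reindex_apply, he₀]
  let Mv : Submodule (WittVector p k) N := Submodule.span (WittVector p k) (Set.range e)
  let My : Submodule (WittVector p k) N := Submodule.span (WittVector p k) (Set.range y)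
  have hmapA : ∀ (μ : T), wmap (Isoc.slopePart F μ.1).subtype (A μ) =
      Submodule.span (WittVector p k) (Set.range fun i => ((eP μ i : Isoc.slopePart F μ.1) : N)) := by
    intro μ
    haveI := hA μ
    have h1 : A μ = Submodule.span (WittVector p k) (Set.range fun i => (c μ i : Isoc.slopePart F μ.1)) := by
      have := congrArg (Submodule.map (A μ).subtype) (c μ).span_eq
      rw [Submodule.map_span, ← Set.range_comp, Submodule.map_top, Submodule.range_subtype] at this
      exact this.symm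
    conv_lhs => rw [h1]
    rw [wmap, Submodule.map_span, ← Set.range_comp]
    congr 1
    apply congrArg
    funext i
    simp [eP]
  have hyin : ∀ j, y j ∈ Mv := by
    intro j
    set μ := (ψ.symm j).1
    have h1 : (⇑F)^[S0] (e j) ∈ Isoc.pPow (R μ) (wmap (Isoc.slopePart F μ.1).subtype (A μ)) := by
      rw [← wmap_pPow, ← hpiece μ, wmap_latImg (F₁ := F.restrict (slopePart_spec F μ.1).1) (F₂ := F) _ (fun _ => rfl)]
      refine iterate_mem_latImg F ?_
      rw [hej, hmapA]
      exact Submodule.subset_span ⟨_, rfl⟩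
    rw [mem_pPow, hmapA] at h1
    refine Submodule.span_mono ?_ h1
    rintro _ ⟨i, rfl⟩
    exact ⟨ψ ⟨μ, i⟩, by rw [Module.Basis.reindex_apply, Equiv.symm_apply_apply, he₀]⟩
  have hein : ∀ j, e j ∈ My := by
    intro j
    set μ := (ψ.symm j).1
    have h1 : e j ∈ Isoc.pPow (-R μ) (Isoc.latImg F S0 (wmap (Isoc.slopePart F μ.1).subtype (A μ))) := by
      rw [← wmap_latImg (F₁ := F.restrict (slopePart_spec F μ.1).1) (F₂ := F) _ (fun _ => rfl), hpiece μ,
        wmap_pPow, pPow_pPow, neg_add_cancel, pPow_zero, hej, hmapA]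
      exact Submodule.subset_span ⟨_, rfl⟩
    refine (?_ : Isoc.pPow (-R μ) (Isoc.latImg F S0 (wmap (Isoc.slopePart F μ.1).subtype (A μ))) ≤ My) h1
    intro z hz
    rw [mem_pPow, mem_latImg, hmapA] at hz
    obtain ⟨x, hx, hxz⟩ := hz
    have hz' : z = (p : K(p, k)) ^ (-R μ) • (⇑F)^[S0] x := by
      rw [hxz, smul_smul, ← zpow_add₀ pne, add_neg_cancel, zpow_zero, one_smul]
    rw [hz']
    clear hz' hxz z h1
    induction hx using Submodule.span_induction with
    | mem x hx =>
      obtain ⟨i, rfl⟩ := hx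
      refine Submodule.subset_span ⟨ψ ⟨μ, i⟩, ?_⟩
      simp only [y, Module.Basis.reindex_apply, e, Equiv.symm_apply_apply, he₀]
      rw [Equiv.symm_apply_apply]
    | zero => rw [iterate_map_zero, smul_zero]; exact zero_mem _
    | add a a' _ _ ha ha' => rw [iterate_map_add, smul_add]; exact add_mem ha ha'
    | smul w a _ ha =>
      obtain ⟨w', hw'⟩ := tau_iW (τ := τ ^ S0) w
      rw [W_smul, iterate_smul, hw', ← W_smul, pw_smul]
      exact Submodule.smul_mem _ _ ha
  choose B hB using fun j => (Submodule.mem_span_range_iff_exists_fun (WittVector p k)).1 (hyin j)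
  choose C hC using fun j => (Submodule.mem_span_range_iff_exists_fun (WittVector p k)).1 (hein j)
  have hrepr : ∀ j i, e.repr (y j) i = iW (B j i) := fun j i => by
    rw [← hB j]; simp only [W_smul, Module.Basis.repr_sum_self]
  have hBC : (Matrix.of fun i j => B j i) * (Matrix.of fun i j => C j i) = 1 := by
    refine Matrix.ext fun i j => ?_
    apply iW_injective (p := p) (k := k)
    have h2 := congrArg (fun v => e.repr v i) (hC j)
    simp only [map_sum, Finsupp.finsetSum_apply, W_smul, map_smul, Finsupp.smul_apply, smul_eq_mul, hrepr,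
      Module.Basis.repr_self, Finsupp.single_apply] at h2
    rw [Matrix.mul_apply, map_sum, Matrix.one_apply]
    rw [show iW (p := p) (k := k) (if i = j then 1 else 0) = if j = i then 1 else 0 by
      rw [apply_ite (iW (p := p) (k := k)), map_one, map_zero]; exact if_congr eq_comm rfl rfl, ← h2]
    exact Finset.sum_congr rfl fun l _ => by rw [map_mul, Matrix.of_apply, Matrix.of_apply, mul_comm]
  have hmat : mat F e S0 = Matrix.of (fun i j => (p : K(p, k)) ^ R (ψ.symm j).1 *
      ((Matrix.of fun i j => B j i).map (iW (p := p) (k := k))) i j) := by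
    ext i j
    simp only [mat, Matrix.of_apply, Matrix.map_apply, ← hrepr]
    simp only [y, map_smul, Finsupp.smul_apply, smul_eq_mul]
    rw [← mul_assoc, ← zpow_add₀ pne, add_neg_cancel, zpow_zero, one_mul]
  have hd' := isOrdP_det_mat F e (isOrdP_detCoeff_change F b e hd) S0
  rw [hmat, Matrix.det_mul_row, ← RingHom.mapMatrix_apply, ← RingHom.map_det] at hd'
  have hu : IsUnit (Matrix.of fun i j => B j i).det :=
    IsUnit.of_mul_eq_one _ (by rw [← Matrix.det_mul, hBC, Matrix.det_one])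
  have hprod : ∀ (t : Finset (Fin h)), Isoc.IsOrdP (∏ j ∈ t, (p : K(p, k)) ^ R (ψ.symm j).1) (∑ j ∈ t, R (ψ.symm j).1) := by
    intro t
    induction t using Finset.induction_on with
    | empty => simpa using isOrdP_one (p := p) (k := k)
    | insert a t ha iht => rw [Finset.prod_insert ha, Finset.sum_insert ha]; exact IsOrdP.mul (isOrdP_zpow _) iht
  have hord := IsOrdP.unique hd' (IsOrdP.mul (hprod Finset.univ) (isOrdP_zero_iff.2 ⟨_, hu, rfl⟩))
  rw [add_zero, ψ.symm.sum_comp (fun a : (μ : T) × Fin (n μ) => R a.1), Fintype.sum_sigma] at hord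
  have hnm : ∀ μ : T, n μ = Isoc.newtonMult F μ.1 := fun μ => by
    rw [Isoc.newtonMult, Module.finrank_eq_card_basis (eP μ), Fintype.card_fin]
  rw [finsum_eq_sum_of_support_subset _ (s := T) (fun μ hμ => by
    rw [hT, hfin.coe_toFinset]
    intro h0
    apply hμ
    simp [Isoc.newtonMult, h0])]
  rw [← Finset.sum_coe_sort T]
  have hq : (S0 : ℚ) * d = ∑ μ : T, ∑ _i : Fin (n μ), (R μ : ℚ) := by exact_mod_cast hord
  have : (S0 : ℚ) ≠ 0 := by exact_mod_cast hS0.ne'
  apply mul_left_cancel₀ this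
  rw [hq, Finset.mul_sum]
  refine Finset.sum_congr rfl fun μ _ => ?_
  rw [Finset.sum_const, Finset.card_univ, Fintype.card_fin, hR μ, hnm μ, nsmul_eq_mul]
  ring

end Groth.L13.Isoc
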