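import Groth.Agent.L13.Isoc.Lattice
import Mathlib.LinearAlgebra.Matrix.Basis
import Mathlib.LinearAlgebra.Matrix.NonsingularInverse

/-! The determinant coefficient of a semilinear map and of its iterates. -/

set_option autoImplicit false

noncomputable section

open scoped Pointwise Isocrystal

universe u v

namespace Groth.L13.Isoc

variable {p : ℕ} [Fact p.Prime] {k : Type u} [Field k]
variable {N : Type v} [AddCommGroup N] [Module K(p, k) N]
variable {τ : K(p, k) →+* K(p, k)} (F : N →ₛₗ[τ] N) {h : ℕ} (b : Module.Basis (Fin h) K(p, k) N)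

/-- The matrix of the `n`-th iterate. -/
def mat (n : ℕ) : Matrix (Fin h) (Fin h) K(p, k) := Matrix.of fun i j => b.repr ((⇑F)^[n] (b j)) i

theorem detCoeff_iter (n : ℕ) : Isoc.detCoeff b (Isoc.iter F n) = (mat F b n).det := rfl

theorem detCoeff_eq : Isoc.detCoeff b F = (mat F b 1).det := rfl

theorem mat_zero : mat F b 0 = 1 := by
  ext i j
  simp [mat, Matrix.one_apply, Finsupp.single_apply, eq_comm]

variable [CharP k p]

theorem mat_add (m n : ℕ) : mat F b (m + n) = mat F b m * (mat F b n).map (τ ^ m) := by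
  ext i j
  simp only [mat, Matrix.of_apply, Matrix.mul_apply, Matrix.map_apply, Function.iterate_add_apply]
  conv_lhs => rw [← b.sum_repr ((⇑F)^[n] (b j))]
  rw [show (⇑F)^[m] = ⇑(Isoc.iter F m) from rfl, map_sum, map_sum, Finsupp.finsetSum_apply]
  refine Finset.sum_congr rfl fun l _ => ?_
  rw [map_smulₛₗ, map_smul, Finsupp.smul_apply, smul_eq_mul, mul_comm]

theorem isOrdP_det_mat [IsGood τ] {d : ℤ} (hd : Isoc.IsOrdP (Isoc.detCoeff b F) d) (n : ℕ) :
    Isoc.IsOrdP (mat F b n).det (n * d) := by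
  induction n with
  | zero => simpa [mat_zero] using isOrdP_one
  | succ n ih =>
    rw [mat_add, Matrix.det_mul, ← RingHom.mapMatrix_apply, ← RingHom.map_det, Nat.cast_succ, add_mul,
      one_mul]
    exact IsOrdP.mul ih (IsOrdP.tau (by rwa [← detCoeff_eq]))

theorem mat_change {h' : ℕ} (b' : Module.Basis (Fin h') K(p, k) N) :
    mat F b' 1 = b'.toMatrix b * mat F b 1 * (b.toMatrix b').map τ := by
  ext i j
  have hb : b' j = ∑ l, b.toMatrix b' l j • b l := (b.sum_toMatrix_smul_self b' j).symm
  simp only [mat, Matrix.of_apply, Function.iterate_one, Matrix.mul_apply, Matrix.map_apply]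
  conv_lhs => rw [hb]
  rw [map_sum, map_sum, Finsupp.finsetSum_apply]
  refine Finset.sum_congr rfl fun l _ => ?_
  rw [map_smulₛₗ, map_smul, Finsupp.smul_apply, smul_eq_mul]
  rw [mul_comm, Finset.sum_mul]
  conv_lhs => rw [← b.sum_repr (F (b l))]
  rw [map_sum, Finsupp.finsetSum_apply, Finset.sum_mul]
  refine Finset.sum_congr rfl fun q _ => ?_
  rw [map_smul, Finsupp.smul_apply, smul_eq_mul, Module.Basis.toMatrix_apply, Module.Basis.toMatrix_apply]
  ring

theorem isOrdP_detCoeff_change [IsGood τ] [PerfectRing k p] (b' : Module.Basis (Fin h) K(p, k) N) {d : ℤ}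
    (hd : Isoc.IsOrdP (Isoc.detCoeff b F) d) : Isoc.IsOrdP (Isoc.detCoeff b' F) d := by
  have h1 : (b'.toMatrix b).det * (b.toMatrix b').det = 1 := by
    rw [← Matrix.det_mul, Module.Basis.toMatrix_mul_toMatrix_flip, Matrix.det_one]
  have hne : (b.toMatrix b').det ≠ 0 := fun h0 => by simp [h0] at h1
  obtain ⟨e, he⟩ := exists_isOrdP hne
  rw [detCoeff_eq, mat_change F b b', Matrix.det_mul, Matrix.det_mul, ← RingHom.mapMatrix_apply,
    ← RingHom.map_det, eq_inv_of_mul_eq_one_left h1, ← detCoeff_eq]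
  have := IsOrdP.mul (IsOrdP.mul (IsOrdP.inv he) hd) (IsOrdP.tau (τ := τ) he)
  rwa [show -e + d + e = d by ring] at this

theorem det_mat_ne_zero [IsGood τ] (hF : Function.Surjective F) : (mat F b 1).det ≠ 0 := by
  choose x hx using fun j => hF (b j)
  let C : Matrix (Fin h) (Fin h) K(p, k) := Matrix.of fun i j => b.repr (x j) i
  have : mat F b 1 * C.map τ = 1 := by
    ext i j
    simp only [Matrix.mul_apply, mat, Matrix.of_apply, Function.iterate_one, Matrix.map_apply, C]
    have e : b j = ∑ l, τ (b.repr (x j) l) • F (b l) := by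
      rw [← hx j]
      conv_lhs => rw [← b.sum_repr (x j)]
      simp only [map_sum, map_smulₛₗ]
    have e' := congrArg (fun v => b.repr v i) e
    simp only [map_sum, map_smul, Finsupp.finsetSum_apply, Finsupp.smul_apply, smul_eq_mul,
      Module.Basis.repr_self, Finsupp.single_apply] at e'
    rw [Matrix.one_apply]
    rw [show (if i = j then (1 : K(p, k)) else 0) = if j = i then 1 else 0 by simp [eq_comm], e']
    exact Finset.sum_congr rfl fun l _ => mul_comm _ _
  intro h0
  have := congrArg Matrix.det this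
  rw [Matrix.det_mul, h0, zero_mul, Matrix.det_one] at this
  exact zero_ne_one this

theorem exists_detCoeff_ord [IsGood τ] [PerfectRing k p] (hF : Function.Surjective F) :
    ∃ d : ℤ, Isoc.IsOrdP (Isoc.detCoeff b F) d :=
  exists_isOrdP (det_mat_ne_zero F b hF)

variable [Module (WittVector p k) N] [IsScalarTower (WittVector p k) K(p, k) N] [PerfectRing k p] [IsGood τ]

theorem inP_mat {M : Submodule (WittVector p k) N} (hM : M.IsLattice K(p, k))
    (c : Module.Basis (Fin h) (WittVector p k) M) {n : ℕ} {r : ℤ}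
    (hle : Isoc.latImg F n M ≤ Isoc.pPow r M) (i j : Fin h) :
    InP (mat F (haveI := hM; c.extendOfIsLattice K(p, k)) n i j) r := by
  refine (mem_pPow_iff_repr c hM).1 (hle ?_) i
  rw [Module.Basis.extendOfIsLattice_apply]
  exact iterate_mem_latImg F (c j).2

theorem mul_le_of_latImg_le {d : ℤ} (hd : Isoc.IsOrdP (Isoc.detCoeff b F) d)
    {M : Submodule (WittVector p k) N} (hM : M.IsLattice K(p, k)) {n : ℕ} {r : ℤ}
    (hle : Isoc.latImg F n M ≤ Isoc.pPow r M) : r * h ≤ n * d := by
  haveI := hM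
  obtain ⟨h', ⟨c⟩⟩ := exists_lattice_basis hM
  obtain rfl : h' = h := by
    rw [← finrank_eq_of_basis hM c, Module.finrank_eq_card_basis b, Fintype.card_fin]
  have hd' := isOrdP_detCoeff_change F b (c.extendOfIsLattice K(p, k)) hd
  have hdet := isOrdP_det_mat F (c.extendOfIsLattice K(p, k)) hd' n
  have := IsOrdP.le hdet (inP_det _ r (inP_mat F hM c hle))
  linarith

theorem latImg_eq_of_le_of_det {d : ℤ} (hd : Isoc.IsOrdP (Isoc.detCoeff b F) d)
    {M : Submodule (WittVector p k) N} (hM : M.IsLattice K(p, k)) {n : ℕ} {r : ℤ}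
    (hle : Isoc.latImg F n M ≤ Isoc.pPow r M) (hr : r * h = n * d) :
    Isoc.latImg F n M = Isoc.pPow r M := by
  haveI := hM
  obtain ⟨h', ⟨c⟩⟩ := exists_lattice_basis hM
  obtain rfl : h' = h := by
    rw [← finrank_eq_of_basis hM c, Module.finrank_eq_card_basis b, Fintype.card_fin]
  set b' := c.extendOfIsLattice K(p, k) with hb'
  have hd' := isOrdP_detCoeff_change F b b' hd
  have hdet := isOrdP_det_mat F b' hd' n
  choose w hw using inP_mat F hM c hle
  have hmat : mat F b' n = (p : K(p, k)) ^ r • (Matrix.of w).map (iW (p := p) (k := k)) := by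
    ext i j; simp [hb', hw i j]
  rw [hmat, Matrix.det_smul, ← RingHom.mapMatrix_apply, ← RingHom.map_det, Fintype.card_fin,
    ← zpow_natCast, ← zpow_mul, hr] at hdet
  obtain ⟨u, hu⟩ := hdet
  have hu' := iW_injective (mul_left_cancel₀ (zpow_ne_zero _ pne) hu)
  have hwinv : IsUnit (Matrix.of w).det := hu' ▸ u.isUnit
  refine le_antisymm hle fun x hx => ?_
  rw [← b'.sum_repr x]
  have hcoef := (mem_pPow_iff_repr c hM).1 hx
  have hbase : ∀ j, (p : K(p, k)) ^ r • b' j ∈ Isoc.latImg F n M := fun j => by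
    have key : (p : K(p, k)) ^ r • b' j = ∑ l, iW ((Matrix.of w)⁻¹ l j) • (⇑F)^[n] (b' l) := by
      apply b'.repr.injective
      ext i
      have e : mat F b' n * ((Matrix.of w)⁻¹).map (iW (p := p) (k := k)) =
          (p : K(p, k)) ^ r • (1 : Matrix (Fin h') (Fin h') K(p, k)) := by
        rw [hmat, Matrix.smul_mul, ← Matrix.map_mul, Matrix.mul_nonsing_inv _ hwinv,
          Matrix.map_one _ (map_zero iW) (map_one iW)]
      have := congrFun (congrFun e i) j
      rw [Matrix.mul_apply] at this
      simp only [map_sum, map_smul, Finsupp.finsetSum_apply, Finsupp.smul_apply, smul_eq_mul,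
        Module.Basis.repr_self, Finsupp.single_apply]
      rw [show (if j = i then (1 : K(p, k)) else 0) = (1 : Matrix (Fin h') (Fin h') K(p, k)) i j by
        simp [Matrix.one_apply, eq_comm]]
      refine Eq.trans ?_ (Eq.trans this.symm (Finset.sum_congr rfl fun l _ => ?_))
      · rfl
      · rw [mul_comm]; rfl
    rw [key]
    refine sum_mem fun l _ => ?_
    rw [← W_smul]
    refine Submodule.smul_mem _ _ (iterate_mem_latImg F ?_)
    rw [hb', Module.Basis.extendOfIsLattice_apply]
    exact (c l).2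
  refine sum_mem fun j _ => ?_
  obtain ⟨v, hv⟩ := hcoef j
  rw [← hb'] at hv
  rw [hv, mul_comm, mul_smul, ← W_smul]
  exact Submodule.smul_mem _ _ (hbase j)

end Groth.L13.Isoc
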