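import Groth.Agent.L13.Isoc.Final
import Mathlib.LinearAlgebra.Charpoly.ToMatrix
import Mathlib.LinearAlgebra.Charpoly.BaseChange
import Mathlib.LinearAlgebra.Matrix.Charpoly.Eigs
import Mathlib.FieldTheory.IsAlgClosed.Spectrum
import Mathlib.RingTheory.IntegralClosure.IntegrallyClosed
import Mathlib.RingTheory.Polynomial.RationalRoot

/-! Newton slopes over a finite field through the characteristic polynomial of the linear power of `F`. -/

set_option autoImplicit false

noncomputable section

open scoped Pointwise Isocrystal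
open Polynomial

universe u v w

namespace Groth.L13.Isoc

section General
variable {L : Type u} [Field L] {Ω : Type w} [Field Ω] [Algebra L Ω] {V : Type v} [AddCommGroup V] [Module L V]

theorem aeval_eq_zero_of_root_charpoly [Module.Finite L V] (π : V →ₗ[L] V) (Q : L[X]) (hQ : aeval π Q = 0) {α : Ω}
    (hα : α ∈ (π.charpoly.map (algebraMap L Ω)).roots) : aeval α Q = 0 := by
  classical
  let b := Module.finBasis L V
  let A := LinearMap.toMatrixAlgEquiv b π
  have hA : aeval A Q = 0 := by rw [Polynomial.aeval_algEquiv, AlgHom.comp_apply, hQ, map_zero]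
  have hA' : aeval ((Algebra.ofId L Ω).mapMatrix A) Q = 0 := by rw [aeval_algHom_apply, hA, map_zero]
  set B := (Algebra.ofId L Ω).mapMatrix A with hB
  have hroot : B.charpoly.IsRoot α := by
    have h1 : π.charpoly = A.charpoly := (LinearMap.charpoly_toMatrix π b).symm
    have h2 : B.charpoly = A.charpoly.map (algebraMap L Ω) := Matrix.charpoly_map A (algebraMap L Ω)
    rw [h2, ← h1]
    exact (mem_roots'.1 hα).2
  have hspec := Matrix.mem_spectrum_iff_isRoot_charpoly.2 hroot
  haveI : Nonempty (Fin (Module.finrank L V)) := by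
    by_contra hne
    haveI := not_nonempty_iff.1 hne
    rw [Matrix.charpoly, Matrix.det_isEmpty] at hroot
    simp at hroot
  have := spectrum.subset_polynomial_aeval B (Q.map (algebraMap L Ω)) ⟨α, hspec, rfl⟩
  rw [aeval_map_algebraMap, hA', spectrum.zero_eq] at this
  simpa [eval_map, aeval_def] using this

theorem charpoly_eq_mul_of_isCompl [Module.Finite L V] (π : V →ₗ[L] V) {P R : Submodule L V} (h : IsCompl P R)
    (hP : ∀ x ∈ P, π x ∈ P) (hR : ∀ x ∈ R, π x ∈ R) :
    π.charpoly = (π.restrict hP).charpoly * (π.restrict hR).charpoly := by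
  rw [← LinearMap.charpoly_prodMap, ← LinearEquiv.charpoly_conj (P.prodEquivOfIsCompl R h)]
  congr 1
  apply LinearMap.ext
  intro x
  obtain ⟨⟨a, b⟩, rfl⟩ := (P.prodEquivOfIsCompl R h).surjective x
  simp [LinearEquiv.conj_apply, map_add]

theorem aeval_restrict_coe (π : V →ₗ[L] V) {U : Submodule L V} (hU : ∀ x ∈ U, π x ∈ U) (q : L[X]) (x : U) :
    ((aeval (π.restrict hU) q x : U) : V) = aeval π q (x : V) := by
  induction q using Polynomial.induction_on' with
  | add a b ha hb => simp only [map_add, LinearMap.add_apply, Submodule.coe_add, ha, hb]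
  | monomial n c =>
    rw [aeval_monomial, aeval_monomial, Module.End.mul_apply, Module.End.mul_apply, Module.algebraMap_end_apply,
      Module.algebraMap_end_apply, Submodule.coe_smul]
    congr 1
    induction n with
    | zero => simp
    | succ n ih => rw [pow_succ', pow_succ', Module.End.mul_apply, Module.End.mul_apply, ← ih]; rfl

end General

variable {p : ℕ} [Fact p.Prime] {k : Type u} [Field k] [CharP k p] [PerfectRing k p]
variable {N : Type v} [AddCommGroup N] [Module (WittVector p k) N] [Module K(p, k) N]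
  [IsScalarTower (WittVector p k) K(p, k) N]
variable {τ : K(p, k) →+* K(p, k)} [IsGood τ] (F : N →ₛₗ[τ] N)
variable {Ω : Type w} [Field Ω] [Algebra (WittVector p k) Ω] [Algebra K(p, k) Ω]
  [IsScalarTower (WittVector p k) K(p, k) Ω]

/-- `α` has order `μ * m`. -/
def HasOrd (m : ℕ) (μ : ℚ) (α : Ω) : Prop :=
  IsIntegral (WittVector p k) (α ^ μ.den * (algebraMap K(p, k) Ω (p : K(p, k))) ^ (-(μ.num * (m : ℤ))))
    ∧ IsIntegral (WittVector p k) (α ^ μ.den * (algebraMap K(p, k) Ω (p : K(p, k))) ^ (-(μ.num * (m : ℤ))))⁻¹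

theorem exists_poly_of_onSub (hF : Function.Injective F) {m : ℕ} (π : N →ₗ[K(p, k)] N)
    (hπ : ∀ x, π x = (⇑F)^[m] x) {P : Submodule K(p, k) N} {μ : ℚ} (hP : OnSub F P μ) :
    ∃ Q : K(p, k)[X], (∀ x ∈ P, aeval π Q x = 0) ∧
      ∀ α : Ω, aeval α Q = 0 → α ≠ 0 ∧ HasOrd (p := p) (k := k) m μ α := by
  obtain ⟨A, r, s, hs, hμ, hfg, hsp, he⟩ := hP
  have he' := latImg_mul_eq F he m
  set R : ℤ := r * m with hR
  have hFs : ∀ x, (π ^ s) x = (⇑F)^[s * m] x := fun x => by
    rw [Module.End.coe_pow, mul_comm, Function.iterate_mul, funext hπ]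
  let G : N →ₗ[K(p, k)] N := (p : K(p, k)) ^ (-R) • π ^ s
  have hG : ∀ x, G x = (p : K(p, k)) ^ (-R) • (⇑F)^[s * m] x := fun x => by
    simp only [G, LinearMap.smul_apply, hFs]
  have hmem : ∀ x ∈ A, G.restrictScalars (WittVector p k) x ∈ A := fun x hx => by
    show G x ∈ A
    rw [hG]
    exact mem_pPow.1 (he' ▸ iterate_mem_latImg F hx)
  let g : A →ₗ[WittVector p k] A := (G.restrictScalars (WittVector p k)).restrict hmem
  have hbij : Function.Bijective g := by
    refine ⟨fun x y hxy => Subtype.ext ?_, fun y => ?_⟩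
    · have h1 : G x = G y := congrArg Subtype.val hxy
      rw [hG, hG] at h1
      exact hF.iterate _ (smul_right_injective N (zpow_ne_zero (-R) pne) h1)
    · obtain ⟨x, hx, hxy⟩ := (mem_latImg F).1 (he'.symm ▸ (smul_mem_pPow y.2 : (p : K(p, k)) ^ R • (y : N) ∈ _))
      refine ⟨⟨x, hx⟩, Subtype.ext ?_⟩
      show G x = y
      rw [hG, hxy, smul_smul, ← zpow_add₀ pne, neg_add_cancel, zpow_zero, one_smul]
  haveI : Module.Finite (WittVector p k) A := Module.Finite.iff_fg.2 hfg
  haveI : Module.IsTorsionFree (WittVector p k) N := Module.IsTorsionFree.trans_faithfulSMul _ K(p, k) N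
  haveI : Module.Free (WittVector p k) A := inferInstance
  set f := g.charpoly with hf
  have hf0 : IsUnit (f.coeff 0) := by
    have h1 : IsUnit (LinearMap.det g) := (LinearEquiv.ofBijective g hbij).isUnit_det'
    rw [LinearMap.det_eq_sign_charpoly_coeff] at h1
    exact isUnit_of_mul_isUnit_right h1
  have hkill : ∀ x ∈ P, aeval G (f.map (iW (p := p) (k := k))) x = 0 := by
    intro x hx
    rw [← hsp] at hx
    induction hx using Submodule.span_induction with
    | mem a ha =>
      have h2 : ∀ (q : (WittVector p k)[X]) (z : A),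
          (aeval g q z : N) = aeval G (q.map (iW (p := p) (k := k))) (z : N) := by
        intro q z
        induction q using Polynomial.induction_on' with
        | add a b ha hb => rw [map_add, Polynomial.map_add, map_add, LinearMap.add_apply, LinearMap.add_apply,
            Submodule.coe_add, ha, hb]
        | monomial n c =>
          rw [map_monomial, aeval_monomial, aeval_monomial, Module.End.mul_apply, Module.End.mul_apply,
            Module.algebraMap_end_apply, Module.algebraMap_end_apply, Submodule.coe_smul, W_smul]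
          congr 1
          induction n with
          | zero => simp
          | succ n ih =>
            rw [pow_succ', pow_succ', Module.End.mul_apply, Module.End.mul_apply, ← ih]
            rfl
      rw [← h2 f ⟨a, ha⟩, hf, LinearMap.aeval_self_charpoly]
      simp
    | zero => exact map_zero _
    | add a b _ _ ha hb => rw [map_add, ha, hb, add_zero]
    | smul c a _ ha => rw [map_smul, ha, smul_zero]
  refine ⟨(f.map (iW (p := p) (k := k))).comp (C ((p : K(p, k)) ^ (-R)) * X ^ s), fun x hx => ?_, fun α hα => ?_⟩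
  · rw [aeval_comp, map_mul, aeval_C, map_pow, aeval_X, ← Algebra.smul_def]
    exact hkill x hx
  set P' : Ω := algebraMap K(p, k) Ω (p : K(p, k)) with hP'
  have hP0 : P' ≠ 0 := by rw [hP', _root_.map_ne_zero]; exact pne
  set β : Ω := P' ^ (-R) * α ^ s with hβ
  have hroot : aeval β f = 0 := by
    rw [aeval_comp, map_mul, aeval_C, map_pow, aeval_X, map_zpow₀, ← hP', ← hβ, aeval_map_algebraMap] at hα
    exact hα
  have hβint : IsIntegral (WittVector p k) β := ⟨f, g.charpoly_monic, by rw [← aeval_def]; exact hroot⟩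
  obtain ⟨u, hu⟩ := hf0
  have hrel : β * aeval β f.divX = -algebraMap (WittVector p k) Ω (u : WittVector p k) := by
    have := congrArg (aeval β) (X_mul_divX_add f)
    rw [map_add, map_mul, aeval_X, aeval_C, hroot, ← hu] at this
    linear_combination this
  have hu0 : algebraMap (WittVector p k) Ω (u : WittVector p k) ≠ 0 :=
    (u.isUnit.map (algebraMap (WittVector p k) Ω)).ne_zero
  have hβ0 : β ≠ 0 := fun h0 => by rw [h0, zero_mul] at hrel; exact hu0 (neg_eq_zero.1 hrel.symm)
  have hα0 : α ≠ 0 := fun h0 => hβ0 (by rw [hβ, h0, zero_pow hs.ne', mul_zero])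
  have hβinv : IsIntegral (WittVector p k) β⁻¹ := by
    have : β⁻¹ = -(algebraMap (WittVector p k) Ω (↑u⁻¹ : WittVector p k) * aeval β f.divX) := by
      refine inv_eq_of_mul_eq_one_right ?_
      rw [mul_neg, mul_left_comm, hrel, mul_neg, neg_neg, ← map_mul, Units.inv_mul, map_one]
    rw [this]
    exact (isIntegral_algebraMap.mul
      (adjoin_le_integralClosure hβint (aeval_mem_adjoin_singleton (WittVector p k) β))).neg
  have hμ' : r * (μ.den : ℤ) = μ.num * s := by
    rw [← μ.num_div_den, div_eq_div_iff (by exact_mod_cast hs.ne') (by exact_mod_cast μ.den_ne_zero)] at hμ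
    exact_mod_cast hμ
  have hx : (α ^ μ.den * P' ^ (-(μ.num * (m : ℤ)))) ^ s = β ^ μ.den := by
    rw [hβ, mul_pow, mul_pow, ← pow_mul, ← pow_mul, mul_comm s μ.den, mul_comm (α ^ (μ.den * s))]
    congr 1
    rw [← zpow_natCast, ← zpow_natCast, ← zpow_mul, ← zpow_mul]
    congr 1
    rw [hR]
    linear_combination (m : ℤ) * hμ'
  refine ⟨hα0, IsIntegral.of_pow hs (by rw [hx]; exact hβint.pow _),
    IsIntegral.of_pow hs (by rw [inv_pow, hx, ← inv_pow]; exact hβinv.pow _)⟩

theorem HasOrd.unique {m : ℕ} (hm : 0 < m) {μ ν : ℚ} {α : Ω} (hα : α ≠ 0)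
    (h₁ : HasOrd (p := p) (k := k) m μ α) (h₂ : HasOrd (p := p) (k := k) m ν α) : μ = ν := by
  set P' : Ω := algebraMap K(p, k) Ω (p : K(p, k)) with hP'
  have hP0 : P' ≠ 0 := by rw [hP', _root_.map_ne_zero]; exact pne
  have key : ∀ (μ ν : ℚ), HasOrd (p := p) (k := k) m μ α → HasOrd (p := p) (k := k) m ν α → 0 ≤ (μ.num * ν.den - ν.num * μ.den) * m := by
    intro μ ν hμ hν
    by_contra hneg
    have h1 : IsIntegral (WittVector p k) (P' ^ ((μ.num * ν.den - ν.num * μ.den) * (m : ℤ))) := by
      have h2 : P' ^ ((μ.num * ν.den - ν.num * μ.den) * (m : ℤ)) =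
          (α ^ ν.den * P' ^ (-(ν.num * (m : ℤ)))) ^ μ.den * ((α ^ μ.den * P' ^ (-(μ.num * (m : ℤ))))⁻¹) ^ ν.den := by
        rw [mul_pow, inv_pow, mul_pow, mul_inv, ← pow_mul, ← pow_mul, mul_comm μ.den ν.den,
          mul_mul_mul_comm, mul_inv_cancel₀ (pow_ne_zero _ hα), one_mul, ← zpow_natCast, ← zpow_natCast,
          ← zpow_mul, ← zpow_mul, ← zpow_neg, ← zpow_add₀ hP0]
        congr 1
        ring
      rw [h2]
      exact (hν.1.pow _).mul (hμ.2.pow _)
    obtain ⟨j, hj⟩ : ∃ j : ℕ, (μ.num * ν.den - ν.num * μ.den) * (m : ℤ) = -((j + 1 : ℕ) : ℤ) :=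
      ⟨(-((μ.num * ν.den - ν.num * μ.den) * (m : ℤ))).toNat - 1, by omega⟩
    rw [hj, hP', ← map_zpow₀, isIntegral_algebraMap_iff (algebraMap K(p, k) Ω).injective] at h1
    obtain ⟨w, hw⟩ := IsIntegrallyClosed.algebraMap_eq_of_integral h1
    have h3 : iW (p := p) (k := k) ((p : WittVector p k) ^ (j + 1) * w) = iW 1 := by
      rw [map_mul, map_pow, iW_natCast, map_one, iW, hw, zpow_neg, zpow_natCast,
        mul_inv_cancel₀ (pow_ne_zero _ pne)]
    have h4 := congrArg WittVector.constantCoeff (iW_injective h3)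
    rw [map_mul, map_pow, map_natCast, CharP.cast_eq_zero, zero_pow (Nat.succ_ne_zero j), zero_mul, map_one] at h4
    exact zero_ne_one h4
  have h5 := key μ ν h₁ h₂
  have h6 := key ν μ h₂ h₁
  have h7 : (μ.num * ν.den - ν.num * μ.den) * (m : ℤ) = 0 := by linarith
  rcases mul_eq_zero.1 h7 with h8 | h8
  · exact Rat.eq_iff_mul_eq_mul.2 (by linarith)
  · omega

theorem newtonMult_eq_countP [Module.Finite K(p, k) N] [IsAlgClosed Ω] (hF : Function.Bijective F) {m : ℕ}
    (hm : 0 < m) (π : N →ₗ[K(p, k)] N) (hπ : ∀ x, π x = (⇑F)^[m] x) (μ : ℚ)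
    [DecidablePred (fun α : Ω => HasOrd (p := p) (k := k) m μ α)] :
    Isoc.newtonMult F μ =
      Multiset.countP (fun α : Ω => HasOrd (p := p) (k := k) m μ α) (π.charpoly.map (algebraMap K(p, k) Ω)).roots := by
  classical
  have hindep := iSupIndep_slopePart F hF
  have hfin : {ν : ℚ | Isoc.slopePart F ν ≠ ⊥}.Finite := WellFoundedGT.finite_ne_bot_of_iSupIndep hindep
  set S := hfin.toFinset.erase μ with hS
  set P := Isoc.slopePart F μ with hPdef
  set R := S.sup (fun ν => Isoc.slopePart F ν) with hRdef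
  have hstab : ∀ ν, ∀ x ∈ Isoc.slopePart F ν, π x ∈ Isoc.slopePart F ν := fun ν x hx => by
    rw [hπ]
    clear hπ π
    induction m generalizing x with
    | zero => exact hx
    | succ n ih =>
      rw [Function.iterate_succ_apply']
      refine (slopePart_spec F ν).1 _ ?_
      rcases Nat.eq_zero_or_pos n with rfl | hn
      · exact hx
      · exact ih hn x hx
  have hR : ∀ x ∈ R, π x ∈ R := by
    have : R ≤ R.comap π := Finset.sup_le fun ν hν y hy =>
      Finset.le_sup (f := fun ν => Isoc.slopePart F ν) hν (hstab ν y hy)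
    exact this
  have hcompl : IsCompl P R := by
    constructor
    · refine (hindep μ).mono_right (Finset.sup_le fun ν hν => ?_)
      exact le_iSup₂ (f := fun ν _ => Isoc.slopePart F ν) ν (Finset.ne_of_mem_erase hν)
    · rw [codisjoint_iff, eq_top_iff, ← (isInternal_slopePart F hF).submodule_iSup_eq_top]
      refine iSup_le fun ν => ?_
      by_cases h : ν = μ
      · subst h; exact le_sup_left
      by_cases h0 : Isoc.slopePart F ν = ⊥
      · rw [h0]; exact bot_le
      · exact le_sup_of_le_right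
          (Finset.le_sup (f := fun ν => Isoc.slopePart F ν) (Finset.mem_erase.2 ⟨h, hfin.mem_toFinset.2 h0⟩))
  choose Q hQ hQα using fun ν => exists_poly_of_onSub (Ω := Ω) F hF.1 π hπ (slopePart_spec F ν).2.1
  have hrest : ∀ (U : Submodule K(p, k) N) (hU : ∀ x ∈ U, π x ∈ U) (q : K(p, k)[X]),
      (∀ x ∈ U, aeval π q x = 0) → aeval (π.restrict hU) q = 0 := by
    intro U hU q hq
    apply LinearMap.ext
    intro x
    apply Subtype.ext
    rw [aeval_restrict_coe π hU q x, hq _ x.2]; rfl
  have hrootP : ∀ α ∈ ((π.restrict (hstab μ)).charpoly.map (algebraMap K(p, k) Ω)).roots,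
      HasOrd (p := p) (k := k) m μ α := fun α hα =>
    (hQα μ α (aeval_eq_zero_of_root_charpoly _ _ (hrest _ (hstab μ) _ (hQ μ)) hα)).2
  have hrootR : ∀ α ∈ ((π.restrict hR).charpoly.map (algebraMap K(p, k) Ω)).roots,
      ¬ HasOrd (p := p) (k := k) m μ α := by
    intro α hα hord
    have hkill : ∀ x ∈ R, aeval π (∏ ν ∈ S, Q ν) x = 0 := by
      have : R ≤ LinearMap.ker (aeval π (∏ ν ∈ S, Q ν)) := Finset.sup_le fun ν hν y hy => by
        rw [LinearMap.mem_ker, ← Finset.prod_erase_mul _ _ hν, map_mul, Module.End.mul_apply, hQ ν y hy, map_zero]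
      exact fun x hx => this hx
    have h0 := aeval_eq_zero_of_root_charpoly _ _ (hrest R hR _ hkill) hα
    rw [map_prod, Finset.prod_eq_zero_iff] at h0
    obtain ⟨ν, hν, hν0⟩ := h0
    obtain ⟨hα0, hordν⟩ := hQα ν α hν0
    exact Finset.ne_of_mem_erase hν (HasOrd.unique hm hα0 hordν hord)
  rw [charpoly_eq_mul_of_isCompl π hcompl (hstab μ) hR, Polynomial.map_mul,
    roots_mul (mul_ne_zero (((LinearMap.charpoly_monic _).map _).ne_zero) (((LinearMap.charpoly_monic _).map _).ne_zero)),
    Multiset.countP_add, Multiset.countP_eq_zero.2 hrootR, add_zero, Multiset.countP_eq_card.2 hrootP,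
    ← (IsAlgClosed.splits _).natDegree_eq_card_roots, (LinearMap.charpoly_monic _).natDegree_map,
    LinearMap.charpoly_natDegree]
  rfl

end Groth.L13.Isoc
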