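import Groth.Agent.L13.Isoc.LangField
import Groth.Agent.L13.Isoc.Final
import Mathlib.RingTheory.Nakayama

/-! Fixed vectors of `σ^b`-semilinear automorphisms of lattices, `k` algebraically closed, `b ≠ 0`. -/

set_option autoImplicit false

noncomputable section

open scoped Pointwise Isocrystal

universe u v

namespace Groth.L13.Isoc

variable {p : ℕ} [Fact p.Prime] {k : Type u} [Field k] [CharP k p] [PerfectRing k p]
variable {N : Type v} [AddCommGroup N] [Module (WittVector p k) N] [Module K(p, k) N]
  [IsScalarTower (WittVector p k) K(p, k) N]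

theorem frobW_pow_coeff (b : ℕ) (w : WittVector p k) (i : ℕ) :
    ((WittVector.frobeniusEquiv p k ^ (b : ℤ)) w).coeff i = w.coeff i ^ p ^ b := by
  induction b generalizing w with
  | zero => simp
  | succ b ih =>
    rw [Nat.cast_succ, zpow_add_one, RingAut.mul_apply, ih, pow_succ' p b, pow_mul]
    congr 1
    exact WittVector.coeff_frobenius_charP _ _ _

theorem frob_pow (a : ℤ) (h : ℕ) : Isoc.frob p k a ^ h = Isoc.frob p k (a * h) := by
  refine IsLocalization.ringHom_ext (nonZeroDivisors (WittVector p k)) (RingHom.ext fun w => ?_)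
  simp only [RingHom.coe_comp, Function.comp_apply]
  rw [Isoc.frob_algebraMap]
  induction h generalizing w with
  | zero => simp
  | succ h ih =>
    rw [pow_succ', RingHom.coe_mul, Function.comp_apply, ih, Isoc.frob_algebraMap, Nat.cast_succ, mul_add,
      mul_one, add_comm (a * _) a, zpow_add, RingAut.mul_apply]

theorem span_fixed_of_nat [IsAlgClosed k] {b : ℕ} (hb : 0 < b) (G : N →ₛₗ[Isoc.frob p k (b : ℤ)] N)
    (hG : Function.Bijective G) {M : Submodule (WittVector p k) N} (hM : M.IsLattice K(p, k))
    (hGM : Isoc.latImg G 1 M = M) : Submodule.span K(p, k) {x | G x = x} = ⊤ := by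
  classical
  obtain ⟨n, ⟨c⟩⟩ := exists_lattice_basis hM
  have hmem : ∀ x ∈ M, G x ∈ M := fun x hx => hGM.le (iterate_mem_latImg G (n := 1) hx)
  let g : M → M := fun x => ⟨G x, hmem x x.2⟩
  let e : WittVector p k ≃+* WittVector p k := WittVector.frobeniusEquiv p k ^ (b : ℤ)
  have hgs : ∀ (w : WittVector p k) (x : M), g (w • x) = e w • g x := fun w x => Subtype.ext (by
    show G ((w • x : M) : N) = e w • G (x : N)
    rw [Submodule.coe_smul, W_smul, map_smulₛₗ, W_smul, iW, Isoc.frob_algebraMap])
  let gadd : M →+ M := AddMonoidHom.mk' g fun x y => Subtype.ext (map_add G (x : N) y)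
  let red : M →+ (Fin n → k) := AddMonoidHom.mk' (fun x i => WittVector.constantCoeff (c.repr x i))
    fun x y => funext fun i => by simp only [map_add, Finsupp.add_apply, Pi.add_apply]
  have hred : ∀ (w : WittVector p k) (x : M), red (w • x) = WittVector.constantCoeff w • red x :=
    fun w x => funext fun i => by
      simp only [red, AddMonoidHom.mk'_apply, map_smul, Finsupp.smul_apply, Pi.smul_apply, smul_eq_mul, map_mul]
  have hce : ∀ w : WittVector p k, WittVector.constantCoeff (e w) = WittVector.constantCoeff w ^ p ^ b :=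
    fun w => frobW_pow_coeff b w 0
  let Gb : (Fin n → k) →ₛₗ[iterateFrobenius k p b] (Fin n → k) :=
    { toFun := fun v => ∑ i, iterateFrobenius k p b (v i) • red (g (c i))
      map_add' := fun x y => by simp [add_smul, Finset.sum_add_distrib]
      map_smul' := fun t x => by simp [Finset.smul_sum, smul_smul] }
  have hcomm : ∀ x : M, red (g x) = Gb (red x) := by
    intro x
    conv_lhs => rw [← c.sum_repr x]
    show red (gadd _) = _
    rw [map_sum, map_sum]
    refine Finset.sum_congr rfl fun i _ => ?_
    show red (g _) = _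
    rw [hgs, hred, hce]
    simp [red, iterateFrobenius_def]
  have hred0 : ∀ x : M, red x = 0 → ∃ y : M, x = (p : WittVector p k) • y := by
    intro x hx
    have : ∀ i, ∃ w, c.repr x i = (p : WittVector p k) * w := by
      intro i
      by_cases h0 : c.repr x i = 0
      · exact ⟨0, by rw [h0, mul_zero]⟩
      obtain ⟨m, u, hu⟩ := WittVector.exists_eq_pow_p_mul' _ h0
      obtain _ | m := m
      · have h1 := congrFun hx i
        simp only [red, AddMonoidHom.mk'_apply, hu, pow_zero, one_mul, Pi.zero_apply] at h1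
        exact absurd h1 ((u.isUnit.map WittVector.constantCoeff).ne_zero)
      · exact ⟨(p : WittVector p k) ^ m * u, by rw [hu, pow_succ']; ring⟩
    choose w hw using this
    refine ⟨∑ i, w i • c i, ?_⟩
    conv_lhs => rw [← c.sum_repr x]
    rw [Finset.smul_sum]
    exact Finset.sum_congr rfl fun i _ => by rw [hw, mul_smul]
  have hsurjg : ∀ y : M, ∃ x : M, g x = y := fun y => by
    obtain ⟨x, hx, hxy⟩ := (mem_latImg G).1 (hGM.symm ▸ y.2 : (y : N) ∈ Isoc.latImg G 1 M)
    exact ⟨⟨x, hx⟩, Subtype.ext hxy⟩
  have hredsurj : ∀ v : Fin n → k, ∃ x : M, red x = v := fun v => by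
    choose w hw using fun i => WittVector.constantCoeff_surjective (p := p) (R := k) (v i)
    refine ⟨∑ i, w i • c i, funext fun i => ?_⟩
    simp only [red, AddMonoidHom.mk'_apply, Module.Basis.repr_sum_self, hw]
  have hpg : ∀ y : M, g ((p : WittVector p k) • y) = (p : WittVector p k) • g y := fun y => by
    rw [hgs, map_natCast]
  have hinj : Function.Injective Gb := by
    rw [injective_iff_map_eq_zero]
    intro v hv
    obtain ⟨x, rfl⟩ := hredsurj v
    rw [← hcomm] at hv
    obtain ⟨y, hy⟩ := hred0 _ hv
    obtain ⟨z, rfl⟩ := hsurjg y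
    rw [← hpg] at hy
    have : x = (p : WittVector p k) • z := Subtype.ext (hG.1 (congrArg Subtype.val hy))
    rw [this, hred, map_natCast, CharP.cast_eq_zero, zero_smul]
  have hq : 2 ≤ p ^ b := le_trans (Fact.out : p.Prime).two_le (Nat.le_self_pow hb.ne' p)
  have hq0 : ((p ^ b : ℕ) : k) = 0 := by rw [Nat.cast_pow, CharP.cast_eq_zero, zero_pow hb.ne']
  obtain ⟨hspan, hsolve⟩ := Lang.span_fixed (σ := iterateFrobenius k p b)
    (fun x => iterateFrobenius_def (R := k) p b x) hq hq0 Gb hinj
  -- surjectivity of `g - 1`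
  have step : ∀ m : M, ∃ u z : M, g u - u = m + (p : WittVector p k) • z := by
    intro m
    obtain ⟨v, hv⟩ := hsolve (red m)
    obtain ⟨u, rfl⟩ := hredsurj v
    obtain ⟨z, hz⟩ := hred0 (g u - u - m) (by rw [map_sub, map_sub, hcomm, hv, sub_self])
    exact ⟨u, z, by rw [← hz]; abel⟩
  choose U Z hUZ using step
  have hH : ∀ m : M, ∃ u : M, g u - u = m := by
    intro m
    let t : ℕ → M := fun j => Nat.rec m (fun _ r => -Z r) j
    let us : ℕ → N := fun j => ∑ l ∈ Finset.range j, (p : K(p, k)) ^ (l : ℤ) • (U (t l) : N)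
    have hus : ∀ j, us j ∈ M := fun j => sum_mem fun l _ => by
      rw [← pow_p_smul]; exact M.smul_mem _ (U (t l)).2
    have hrel : ∀ j : ℕ, G (us j) - us j = (m : N) - (p : K(p, k)) ^ (j : ℤ) • (Subtype.val (t j)) := by
      intro j
      induction j with
      | zero => simp [us, t]
      | succ j ih =>
        simp only [us, Finset.sum_range_succ, map_add, map_smulₛₗ, tau_zpow] at ih ⊢
        have h := congrArg Subtype.val (hUZ (t j))
        simp only [Submodule.coe_sub, Submodule.coe_add, Submodule.coe_smul, g] at h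
        rw [show ((p : WittVector p k) • (Z (t j) : N)) = (p : K(p, k)) • (Z (t j) : N) by
          rw [W_smul, iW_natCast]] at h
        rw [add_sub_add_comm, ih, ← smul_sub, h, smul_add, smul_smul, Nat.cast_succ, zpow_add_one₀ pne,
          show (Subtype.val (t (j + 1))) = -(Z (t j) : N) from rfl, smul_neg]
        abel
    obtain ⟨l, hl, hlj⟩ := exists_limit hM us hus fun j => by
      simp only [us, Finset.sum_range_succ, add_sub_cancel_left]
      exact smul_mem_pPow (U (t j)).2
    refine ⟨⟨l, hl⟩, Subtype.ext (sub_eq_zero.1 (eq_zero_of_forall_mem_pPow hM fun j => ?_))⟩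
    show G l - l - (m : N) ∈ _
    rw [show G l - l - (m : N) = G (l - us j) - (l - us j) + (G (us j) - us j - m) by rw [map_sub]; abel, hrel]
    refine add_mem (sub_mem ?_ (hlj j)) ?_
    · obtain ⟨d, hd, hd'⟩ : ∃ d ∈ M, l - us j = (p : K(p, k)) ^ (j : ℤ) • d := by
        refine ⟨_, mem_pPow.1 (hlj j), ?_⟩
        rw [smul_smul, ← zpow_add₀ pne, add_neg_cancel, zpow_zero, one_smul]
      rw [hd', map_smulₛₗ, tau_zpow]
      exact smul_mem_pPow (hmem d hd)
    · rw [sub_sub_cancel_left]
      exact neg_mem (smul_mem_pPow (t j).2)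
  -- fixed vectors lift
  let F0 : Submodule (WittVector p k) M := Submodule.span _ {x : M | g x = x}
  have hlift : ∀ v : Fin n → k, ∃ x ∈ F0, red x = v := by
    intro v
    have hv : v ∈ Submodule.span k {v | Gb v = v} := hspan ▸ Submodule.mem_top
    induction hv using Submodule.span_induction with
    | mem f hf =>
      obtain ⟨x, rfl⟩ := hredsurj f
      obtain ⟨y, hy⟩ := hred0 (g x - x) (by rw [map_sub, hcomm, show Gb (red x) = red x from hf, sub_self])
      obtain ⟨u, hu⟩ := hH y
      refine ⟨x - (p : WittVector p k) • u, Submodule.subset_span ?_, by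
        rw [map_sub, hred, map_natCast, CharP.cast_eq_zero, zero_smul, sub_zero]⟩
      show g (x - _) = _
      rw [show g (x - (p : WittVector p k) • u) = g x - g ((p : WittVector p k) • u) from map_sub gadd _ _, hpg]
      rw [← hu, smul_sub] at hy
      linear_combination (norm := module) hy
    | zero => exact ⟨0, zero_mem _, map_zero red⟩
    | add a a' _ _ ha ha' =>
      obtain ⟨x, hx, rfl⟩ := ha
      obtain ⟨y, hy, rfl⟩ := ha'
      exact ⟨x + y, add_mem hx hy, map_add red x y⟩
    | smul s a _ ha =>
      obtain ⟨x, hx, rfl⟩ := ha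
      obtain ⟨w, rfl⟩ := WittVector.constantCoeff_surjective (p := p) (R := k) s
      exact ⟨w • x, F0.smul_mem _ hx, hred w x⟩
  haveI := hM
  have htop : (⊤ : Submodule (WittVector p k) M) ≤ F0 := by
    refine Submodule.le_of_le_smul_of_le_jacobson_bot (I := Ideal.span {(p : WittVector p k)})
      Module.Finite.fg_top ?_ fun x _ => ?_
    · rw [IsLocalRing.jacobson_eq_maximalIdeal ⊥ bot_ne_top, Ideal.span_le, Set.singleton_subset_iff]
      exact (IsLocalRing.mem_maximalIdeal _).2 fun hu => by
        have := (hu.map WittVector.constantCoeff).ne_zero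
        rw [map_natCast, CharP.cast_eq_zero] at this
        exact this rfl
    · obtain ⟨y, hy, hxy⟩ := hlift (red x)
      obtain ⟨z, hz⟩ := hred0 (x - y) (by rw [map_sub, hxy, sub_self])
      refine Submodule.mem_sup.2 ⟨y, hy, x - y, ?_, add_sub_cancel y x⟩
      rw [hz]
      exact Submodule.smul_mem_smul (Ideal.mem_span_singleton_self _) Submodule.mem_top
  rw [eq_top_iff, ← hM.span_eq_top]
  refine Submodule.span_le.2 fun x hx => ?_
  have hx' : (⟨x, hx⟩ : M) ∈ F0 := htop Submodule.mem_top
  have key : ∀ y ∈ F0, (y : N) ∈ Submodule.span K(p, k) {x | G x = x} := by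
    intro y hy
    induction hy using Submodule.span_induction with
    | mem f hf => exact Submodule.subset_span (congrArg Subtype.val hf)
    | zero => exact zero_mem _
    | add a a' _ _ ha ha' => rw [Submodule.coe_add]; exact add_mem ha ha'
    | smul w a _ ha => rw [Submodule.coe_smul, W_smul]; exact Submodule.smul_mem _ _ ha
  exact key _ hx'

theorem span_fixed_of_ne_zero [IsAlgClosed k] {b : ℤ} (hb : b ≠ 0) (G : N →ₛₗ[Isoc.frob p k b] N)
    (hG : Function.Bijective G) {M : Submodule (WittVector p k) N} (hM : M.IsLattice K(p, k))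
    (hGM : Isoc.latImg G 1 M = M) : Submodule.span K(p, k) {x | G x = x} = ⊤ := by
  obtain ⟨n, rfl | rfl⟩ := Int.eq_nat_or_neg b
  · exact span_fixed_of_nat (by omega) G hG hM hGM
  let E := Equiv.ofBijective G hG
  have hτ : ∀ c, Isoc.frob p k (-(n : ℤ)) (Isoc.frob p k (n : ℤ) c) = c := fun c => by
    obtain ⟨x, y, -, rfl⟩ := IsFractionRing.div_surjective (A := WittVector p k) c
    simp only [map_div₀, Isoc.frob_algebraMap, ← RingAut.mul_apply, ← zpow_add, neg_add_cancel, zpow_zero,
      RingAut.one_apply]
  have hGE : ∀ x, G (E.symm x) = x := E.apply_symm_apply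
  let G' : N →ₛₗ[Isoc.frob p k (n : ℤ)] N :=
    { toFun := E.symm
      map_add' := fun x y => hG.1 (by rw [map_add G, hGE, hGE, hGE])
      map_smul' := fun c x => hG.1 (by rw [LinearMap.map_smulₛₗ G, hτ, hGE, hGE]) }
  have hset : {x | G' x = x} = {x | G x = x} := Set.ext fun x => by
    constructor
    · intro h
      have h' : E.symm x = x := h
      show G x = x
      conv_lhs => rw [← h']
      exact hGE x
    · intro h
      exact hG.1 ((hGE x).trans h.symm)
  rw [← hset]
  refine span_fixed_of_nat (by omega) G' E.symm.bijective hM (le_antisymm ?_ ?_)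
  · refine (latImg_le_iff G').2 fun x hx => ?_
    obtain ⟨y, hy, hyx⟩ := (mem_latImg G).1 (hGM.symm ▸ hx : x ∈ Isoc.latImg G 1 M)
    show E.symm x ∈ M
    rw [show x = E y from hyx.symm, E.symm_apply_apply]
    exact hy
  · intro x hx
    refine (mem_latImg G').2 ⟨G x, hGM.le (iterate_mem_latImg G (n := 1) hx), ?_⟩
    exact E.symm_apply_apply x

end Groth.L13.Isoc
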