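import Mathlib.FieldTheory.IsAlgClosed.Basic
import Mathlib.FieldTheory.Separable
import Mathlib.LinearAlgebra.Quotient.Basic
import Mathlib.RingTheory.Noetherian.Basic

/-! Fixed vectors of semilinear injections over an algebraically closed field. -/

set_option autoImplicit false

noncomputable section

open Polynomial

universe u v

namespace Groth.L13.Lang

variable {k : Type u} [Field k] [IsAlgClosed k] {σ : k →+* k} {q : ℕ}

theorem exists_root_ne_zero (hq : 2 ≤ q) (hq0 : (q : k) = 0) (c : ℕ → k) (hc : c 0 ≠ 0) (m : ℕ) :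
    ∃ z : ℕ → k, z m ≠ 0 ∧ z 0 = c 0 * z m ^ q ∧ ∀ i, z (i + 1) = z i ^ q + c (i + 1) * z m ^ q := by
  let P : ℕ → k[X] := fun i => Nat.rec (C (c 0) * X ^ q) (fun i Q => Q ^ q + C (c (i + 1)) * X ^ q) i
  have hdeg : ∀ i, (P i).natDegree = q ^ (i + 1) := by
    intro i
    induction i with
    | zero => simp [P, natDegree_C_mul_X_pow _ _ hc]
    | succ i ih =>
      show (P i ^ q + C (c (i + 1)) * X ^ q).natDegree = _
      have hlt : (C (c (i + 1)) * X ^ q).natDegree < (P i ^ q).natDegree := by
        refine lt_of_le_of_lt (natDegree_C_mul_X_pow_le _ _) ?_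
        rw [natDegree_pow, ih]
        calc q = q * 1 := (mul_one q).symm
          _ < q * q ^ (i + 1) := Nat.mul_lt_mul_of_pos_left (Nat.one_lt_pow (by omega) (by omega)) (by omega)
      rw [natDegree_add_eq_left_of_natDegree_lt hlt, natDegree_pow, ih, ← pow_succ']
  have hder : ∀ i, derivative (P i) = 0 := by
    intro i
    induction i with
    | zero => simp [P, derivative_X_pow, hq0]
    | succ i _ =>
      show derivative (P i ^ q + C (c (i + 1)) * X ^ q) = 0
      simp [derivative_pow, derivative_X_pow, hq0]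
  set Q := P m - X with hQ
  have hQdeg : Q.natDegree = q ^ (m + 1) := by
    rw [hQ, natDegree_sub_eq_left_of_natDegree_lt, hdeg]
    rw [natDegree_X, hdeg]
    exact Nat.one_lt_pow (by omega) (by omega)
  have hsep : Q.Separable := by
    rw [separable_def, hQ, derivative_sub, hder, derivative_X, zero_sub]
    exact ⟨0, -1, by ring⟩
  have hcard : Multiset.card Q.roots = q ^ (m + 1) := by
    rw [← (IsAlgClosed.splits Q).natDegree_eq_card_roots, hQdeg]
  obtain ⟨y, hy, hy0⟩ : ∃ y ∈ Q.roots, y ≠ 0 := by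
    classical
    by_contra h
    push Not at h
    have h1 := Multiset.eq_replicate_card.2 h
    have h2 := nodup_roots hsep
    rw [h1, hcard] at h2
    have : q ^ (m + 1) ≤ 1 := by
      simpa [Multiset.count_replicate_self] using Multiset.nodup_iff_count_le_one.1 h2 (0 : k)
    have : 1 < q ^ (m + 1) := Nat.one_lt_pow (by omega) (by omega)
    omega
  rw [mem_roots'] at hy
  have hm : (P m).eval y = y := by
    have := hy.2
    simpa [hQ, IsRoot.def, sub_eq_zero] using this
  refine ⟨fun i => (P i).eval y, by simpa [hm] using hy0, ?_, fun i => ?_⟩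
  · simp only [hm]; simp [P]
  · simp only [hm]
    show eval y (P i ^ q + C (c (i + 1)) * X ^ q) = _
    simp

theorem sigma_surjective (hσ : ∀ x, σ x = x ^ q) (hq : 0 < q) : Function.Surjective σ := fun x => by
  obtain ⟨z, hz⟩ := IsAlgClosed.exists_pow_nat_eq x hq
  exact ⟨z, by rw [hσ, hz]⟩

theorem exists_fixed_ne_zero (hσ : ∀ x, σ x = x ^ q) (hq : 2 ≤ q) (hq0 : (q : k) = 0)
    {V : Type v} [AddCommGroup V] [Module k V] [IsNoetherian k V] (G : V →ₛₗ[σ] V) (hG : Function.Injective G)
    [Nontrivial V] : ∃ x : V, x ≠ 0 ∧ G x = x := by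
  classical
  obtain ⟨v, hv⟩ := exists_ne (0 : V)
  let w : ℕ → V := fun i => (⇑G)^[i] v
  have hw : ∀ i, G (w i) = w (i + 1) := fun i => (Function.iterate_succ_apply' _ _ _).symm
  let S : ℕ →o Submodule k V := ⟨fun r => Submodule.span k (w '' Set.Iio r), fun r s h =>
    Submodule.span_mono (Set.image_mono (Set.Iio_subset_Iio h))⟩
  have hex : ∃ r, w r ∈ S r := by
    obtain ⟨n, hn⟩ := monotone_stabilizes_iff_noetherian.2 inferInstance S
    exact ⟨n, (hn (n + 1) (Nat.le_succ n)).symm ▸ Submodule.subset_span ⟨n, Nat.lt_succ_self n, rfl⟩⟩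
  obtain ⟨m, hm⟩ : ∃ m, Nat.find hex = m + 1 := by
    refine ⟨Nat.find hex - 1, (Nat.succ_pred_eq_of_pos (Nat.pos_of_ne_zero fun h0 => hv ?_)).symm⟩
    have := Nat.find_spec hex
    rw [h0] at this
    simpa [S, w] using this
  have hmin : ∀ s, s ≤ m → w s ∉ S s := fun s hs => Nat.find_min hex (by omega)
  have hspec : w (m + 1) ∈ S (m + 1) := hm ▸ Nat.find_spec hex
  have hsum : ∀ (r : ℕ), ∀ x ∈ S r, ∃ a : ℕ → k, x = ∑ i ∈ Finset.range r, a i • w i := by
    intro r x hx
    induction hx using Submodule.span_induction with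
    | mem x hx =>
      obtain ⟨i, hi, rfl⟩ := hx
      exact ⟨fun j => if j = i then 1 else 0, by simp [Set.mem_Iio.1 hi]⟩
    | zero => exact ⟨0, by simp⟩
    | add a b _ _ ha hb =>
      obtain ⟨a', rfl⟩ := ha
      obtain ⟨b', rfl⟩ := hb
      exact ⟨a' + b', by simp [add_smul, Finset.sum_add_distrib]⟩
    | smul t a _ ha =>
      obtain ⟨a', rfl⟩ := ha
      exact ⟨t • a', by simp [Finset.smul_sum, smul_smul]⟩
  have hind : ∀ s, s ≤ m + 1 → ∀ a : ℕ → k, ∑ i ∈ Finset.range s, a i • w i = 0 → ∀ i < s, a i = 0 := by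
    intro s
    induction s with
    | zero => intro _ _ _ i hi; omega
    | succ s ih =>
      intro hs a ha i hi
      rw [Finset.sum_range_succ] at ha
      have has : a s = 0 := by
        by_contra hne
        refine hmin s (by omega) ?_
        have : w s = (a s)⁻¹ • -(∑ i ∈ Finset.range s, a i • w i) := by
          rw [← eq_neg_of_add_eq_zero_right ha, smul_smul, inv_mul_cancel₀ hne, one_smul]
        rw [this]
        exact Submodule.smul_mem _ _ (Submodule.neg_mem _ (Submodule.sum_mem _ fun j hj =>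
          Submodule.smul_mem _ _ (Submodule.subset_span ⟨j, Finset.mem_range.1 hj, rfl⟩)))
      rcases Nat.lt_succ_iff_lt_or_eq.1 hi with h | rfl
      · rw [has, zero_smul, add_zero] at ha
        exact ih (by omega) a ha i h
      · exact has
  obtain ⟨c, hc⟩ := hsum _ _ hspec
  have hc0 : c 0 ≠ 0 := by
    intro h0
    refine hmin m le_rfl ?_
    choose t ht using sigma_surjective hσ (by omega : 0 < q)
    have : G (w m) = G (∑ i ∈ Finset.range m, t (c (i + 1)) • w i) := by
      rw [hw, hc, Finset.sum_range_succ', h0, zero_smul, add_zero, map_sum]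
      simp [map_smulₛₗ, ht, hw]
    rw [hG this]
    exact Submodule.sum_mem _ fun i hi => Submodule.smul_mem _ _
      (Submodule.subset_span ⟨i, Finset.mem_range.1 hi, rfl⟩)
  obtain ⟨z, hzm, hz0, hz⟩ := exists_root_ne_zero hq hq0 c hc0 m
  refine ⟨∑ i ∈ Finset.range (m + 1), z i • w i, fun h0 => hzm (hind _ le_rfl z h0 m (Nat.lt_succ_self m)), ?_⟩
  rw [map_sum, Finset.sum_range_succ]
  simp only [map_smulₛₗ, hσ, hw]
  rw [hc, Finset.smul_sum, Finset.sum_range_succ' (fun i => z m ^ q • c i • w i),
    Finset.sum_range_succ' (fun i => z i • w i), ← add_assoc, ← Finset.sum_add_distrib]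
  congr 1
  · exact Finset.sum_congr rfl fun i _ => by rw [hz, smul_smul, mul_comm, add_smul]
  · rw [hz0, smul_smul, mul_comm]

theorem span_fixed (hσ : ∀ x, σ x = x ^ q) (hq : 2 ≤ q) (hq0 : (q : k) = 0)
    {V : Type v} [AddCommGroup V] [Module k V] [IsNoetherian k V] (G : V →ₛₗ[σ] V) (hG : Function.Injective G) :
    Submodule.span k {x | G x = x} = ⊤ ∧ ∀ v, ∃ u, G u - u = v := by
  set S := Submodule.span k {x | G x = x} with hS
  have hsolve : ∀ v ∈ S, ∀ c : k, ∃ u ∈ S, G u - u = c • v := by
    intro v hv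
    induction hv using Submodule.span_induction with
    | mem f hf =>
      intro c
      obtain ⟨y, hy⟩ : ∃ y, y ^ q - y = c := by
        have hdeg : (X ^ q - X - C c : k[X]).degree ≠ 0 := by
          have h1 : (X ^ q - X - C c : k[X]).natDegree = q := by
            rw [natDegree_sub_C, natDegree_sub_eq_left_of_natDegree_lt] <;> simp <;> omega
          intro h
          rw [natDegree_eq_of_degree_eq_some (n := 0) h] at h1
          omega
        obtain ⟨y, hy⟩ := IsAlgClosed.exists_root _ hdeg
        exact ⟨y, by simpa [sub_eq_zero] using hy⟩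
      exact ⟨y • f, S.smul_mem _ (Submodule.subset_span hf),
        by rw [map_smulₛₗ, hσ, show G f = f from hf, ← sub_smul, hy]⟩
    | zero => exact fun c => ⟨0, S.zero_mem, by simp⟩
    | add a b _ _ ha hb =>
      intro c
      obtain ⟨u, hu, hu'⟩ := ha c
      obtain ⟨u', hu2, hu2'⟩ := hb c
      exact ⟨u + u', S.add_mem hu hu2, by rw [map_add, smul_add, ← hu', ← hu2']; abel⟩
    | smul t a _ ha =>
      intro c
      rw [smul_smul]
      exact ha (c * t)
  have hst : S ≤ S.comap G := Submodule.span_le.2 fun f hf => by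
    have : G f = f := hf
    simpa [this] using (Submodule.subset_span hf : f ∈ S)
  have hinj : Function.Injective (S.mapQ S G hst) := by
    rw [injective_iff_map_eq_zero]
    intro x hx
    obtain ⟨x, rfl⟩ := Submodule.Quotient.mk_surjective S x
    rw [Submodule.mapQ_apply, Submodule.Quotient.mk_eq_zero] at hx
    rw [Submodule.Quotient.mk_eq_zero]
    have himg : ∀ y ∈ S, ∃ x ∈ S, G x = y := by
      intro y hy
      induction hy using Submodule.span_induction with
      | mem f hf => exact ⟨f, Submodule.subset_span hf, hf⟩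
      | zero => exact ⟨0, S.zero_mem, map_zero G⟩
      | add a b _ _ ha hb =>
        obtain ⟨a', h1, rfl⟩ := ha
        obtain ⟨b', h2, rfl⟩ := hb
        exact ⟨a' + b', S.add_mem h1 h2, map_add G _ _⟩
      | smul t a _ ha =>
        obtain ⟨a', h1, rfl⟩ := ha
        obtain ⟨t', rfl⟩ := sigma_surjective hσ (by omega : 0 < q) t
        exact ⟨t' • a', S.smul_mem _ h1, map_smulₛₗ G _ _⟩
    obtain ⟨x', h1, h2⟩ := himg _ hx
    exact hG h2 ▸ h1
  have htop : S = ⊤ := by
    by_contra hne
    have : Nontrivial (V ⧸ S) := Submodule.Quotient.nontrivial_iff.2 hne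
    obtain ⟨x, hx0, hx⟩ := exists_fixed_ne_zero hσ hq hq0 (S.mapQ S G hst) hinj
    obtain ⟨x, rfl⟩ := Submodule.Quotient.mk_surjective S x
    rw [Submodule.mapQ_apply, Submodule.Quotient.eq] at hx
    obtain ⟨u, hu, hu'⟩ := hsolve _ hx (-1)
    refine hx0 ((Submodule.Quotient.mk_eq_zero S).2 ?_)
    have hfix : G (x + u) = x + u := by
      rw [neg_one_smul, neg_sub] at hu'
      rw [map_add, ← sub_eq_zero, show G x + G u - (x + u) = (G u - u) + (G x - x) by abel, hu']
      abel
    simpa using S.sub_mem (Submodule.subset_span hfix : x + u ∈ S) hu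
  refine ⟨htop, fun v => ?_⟩
  obtain ⟨u, -, hu⟩ := hsolve v (htop ▸ trivial) 1
  exact ⟨u, by simpa using hu⟩

end Groth.L13.Lang
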