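import Groth.Agent.L13.Isoc.Det
import Mathlib.Analysis.Subadditive
import Mathlib.Analysis.SpecificLimits.Basic
import Mathlib.Analysis.Normed.Group.Continuity
import Mathlib.Analysis.Normed.Ring.Lemmas
import Mathlib.Data.Int.LeastGreatest
import Mathlib.Topology.Instances.Real.Lemmas
import Mathlib.Algebra.Order.Field.Basic

/-! Orders of iterates relative to a lattice, and first slopes. -/

set_option autoImplicit false

noncomputable section

open scoped Pointwise Isocrystal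
open Filter Topology

universe u v

namespace Groth.L13.Isoc

variable {p : ℕ} [Fact p.Prime] {k : Type u} [Field k] [CharP k p] [PerfectRing k p]
variable {N : Type v} [AddCommGroup N] [Module (WittVector p k) N] [Module K(p, k) N]
  [IsScalarTower (WittVector p k) K(p, k) N]
variable {τ : K(p, k) →+* K(p, k)} [IsGood τ] (F : N →ₛₗ[τ] N) (hF : Function.Bijective F)
variable {M : Submodule (WittVector p k) N} (hM : M.IsLattice K(p, k))

/-- The family `o` gives all the orders of the iterates. -/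
def IsOrdFun (M : Submodule (WittVector p k) N) (o : ℕ → ℤ) : Prop :=
  ∀ (n : ℕ) (r : ℤ), Isoc.latImg F n M ≤ Isoc.pPow r M ↔ r ≤ o n

theorem isOrd_iff_forall {s : ℕ} {r : ℤ} :
    Isoc.IsOrd M F s r ↔ ∀ r' : ℤ, Isoc.latImg F s M ≤ Isoc.pPow r' M ↔ r' ≤ r := by
  constructor
  · rintro ⟨h1, h2⟩ r'
    refine ⟨fun h => ?_, fun h => h1.trans (pPow_anti h M)⟩
    by_contra hlt
    exact h2 (h.trans (pPow_anti (by omega) M))
  · intro h
    exact ⟨(h r).2 le_rfl, fun h' => by have := (h (r + 1)).1 h'; omega⟩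

theorem IsOrdFun.isOrd {o : ℕ → ℤ} (ho : IsOrdFun F M o) (n : ℕ) : Isoc.IsOrd M F n (o n) :=
  isOrd_iff_forall F |>.2 (ho n)

theorem IsOrdFun.eq_of_isOrd {o : ℕ → ℤ} (ho : IsOrdFun F M o) {n : ℕ} {r : ℤ}
    (h : Isoc.IsOrd M F n r) : r = o n :=
  le_antisymm ((ho n r).1 h.1) ((isOrd_iff_forall F |>.1 h (o n)).1 ((ho n _).2 le_rfl))

include hF hM

theorem exists_isOrdFun [Nontrivial N] : ∃ o : ℕ → ℤ, IsOrdFun F M o := by
  have key : ∀ n, ∃ r0 : ℤ, ∀ r, (Isoc.latImg F n M ≤ Isoc.pPow r M ↔ r ≤ r0) := by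
    intro n
    have hL := isLattice_latImg F hF.2 n hM
    obtain ⟨c, hc⟩ := lattice_exists_le hM.fg hL
    obtain ⟨r0, h0, hmax⟩ := Int.exists_greatest_of_bdd
      (P := fun r => Isoc.latImg F n M ≤ Isoc.pPow r M) ⟨-c, fun r hr => by
        have := le_zero_of_le_pPow hM (hc.trans (le_of_le_of_eq (pPow_mono c hr) (pPow_pPow c r M)))
        omega⟩ (lattice_exists_le hL.fg hM)
    exact ⟨r0, fun r => ⟨fun h => hmax r h, fun h => h0.trans (pPow_anti h M)⟩⟩
  choose o ho using key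
  exact ⟨o, ho⟩

omit hF in
theorem IsOrdFun.zero [Nontrivial N] {o : ℕ → ℤ} (ho : IsOrdFun F M o) : o 0 = 0 := by
  refine le_antisymm ?_ ((ho 0 0).1 (by rw [latImg_zero, pPow_zero]))
  exact le_zero_of_le_pPow hM (by have := (ho 0 (o 0)).2 le_rfl; rwa [latImg_zero] at this)

omit hF hM in
theorem IsOrdFun.add_le {o : ℕ → ℤ} (ho : IsOrdFun F M o) (m n : ℕ) : o m + o n ≤ o (m + n) := by
  refine (ho _ _).1 ?_
  rw [latImg_add]
  refine (latImg_mono F m ((ho n _).2 le_rfl)).trans ?_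
  rw [latImg_pPow, add_comm (o m), ← pPow_pPow]
  exact pPow_mono _ ((ho m _).2 le_rfl)

theorem exists_tendsto_of_isOrdFun [Nontrivial N] {o : ℕ → ℤ} (ho : IsOrdFun F M o) :
    ∃ lam : ℝ, Tendsto (fun n : ℕ => (o n : ℝ) / n) atTop (𝓝 lam) ∧
      ∀ n : ℕ, (o n : ℝ) ≤ n * lam := by
  obtain ⟨h, ⟨c⟩⟩ := exists_lattice_basis hM
  haveI := hM
  obtain ⟨d, hd⟩ := exists_detCoeff_ord F (c.extendOfIsLattice K(p, k)) hF.2
  have hh : 0 < h := by
    rw [← finrank_eq_of_basis hM c]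
    haveI : Module.Finite K(p, k) N := Module.Finite.of_basis (c.extendOfIsLattice K(p, k))
    exact Module.finrank_pos
  have hb : ∀ n, (o n : ℝ) * h ≤ n * d := fun n => by
    exact_mod_cast mul_le_of_latImg_le F _ hd hM ((ho n _).2 le_rfl)
  let u : ℕ → ℝ := fun n => -(o n : ℝ)
  have hu : Subadditive u := fun m n => by
    have := ho.add_le F m n
    simp only [u]
    have h' : (o m : ℝ) + o n ≤ o (m + n) := by exact_mod_cast this
    linarith
  have hbdd : BddBelow (Set.range fun n => u n / n) := by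
    refine ⟨-(|(d : ℝ)| / h), ?_⟩
    rintro _ ⟨n, rfl⟩
    simp only [u, neg_div, neg_le_neg_iff]
    rcases Nat.eq_zero_or_pos n with hn | hn
    · simp [hn]; positivity
    · rw [div_le_div_iff₀ (by exact_mod_cast hn) (by exact_mod_cast hh)]
      calc (o n : ℝ) * h ≤ n * d := hb n
        _ ≤ |(d : ℝ)| * n := by rw [mul_comm]; gcongr; exact le_abs_self _
  refine ⟨-hu.lim, ?_, fun n => ?_⟩
  · have := (hu.tendsto_lim hbdd).neg
    simpa [u, neg_div] using this
  · rcases Nat.eq_zero_or_pos n with hn | hn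
    · simp [hn, ho.zero F hM]
    · have := hu.lim_le_div hbdd hn.ne'
      simp only [u, neg_div] at this
      rw [le_neg] at this
      rw [div_le_iff₀ (by exact_mod_cast hn)] at this
      linarith

omit hF hM [IsGood τ] [PerfectRing k p] in
theorem IsOrd.nontrivial {M : Submodule (WittVector p k) N} {s : ℕ} {r : ℤ} (h : Isoc.IsOrd M F s r) :
    Nontrivial N := by
  by_contra hn
  rw [not_nontrivial_iff_subsingleton] at hn
  exact h.2 fun x _ => by rw [Subsingleton.elim x 0]; exact zero_mem _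

theorem abs_sub_le_of_lattices {M₂ : Submodule (WittVector p k) N} (hM₂ : M₂.IsLattice K(p, k))
    {o₁ o₂ : ℕ → ℤ} (h₁ : IsOrdFun F M o₁) (h₂ : IsOrdFun F M₂ o₂) :
    ∃ C : ℤ, ∀ n, |o₁ n - o₂ n| ≤ C := by
  obtain ⟨a, ha⟩ := lattice_exists_le hM.fg hM₂
  obtain ⟨b, hb⟩ := lattice_exists_le hM₂.fg hM
  have key : ∀ (A B : Submodule (WittVector p k) N) (oA oB : ℕ → ℤ), IsOrdFun F A oA → IsOrdFun F B oB →
      ∀ (a b : ℤ), A ≤ Isoc.pPow a B → B ≤ Isoc.pPow b A → ∀ n, oB n + a + b ≤ oA n := by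
    intro A B oA oB hA hB a b hab hba n
    refine (hA n _).1 ((latImg_mono F n hab).trans ?_)
    rw [latImg_pPow]
    refine (pPow_mono a (((hB n _).2 le_rfl).trans (pPow_mono _ hba))).trans ?_
    rw [pPow_pPow, pPow_pPow, show a + oB n + b = oB n + a + b by ring]
  refine ⟨|a + b|, fun n => ?_⟩
  have := key _ _ _ _ h₁ h₂ a b ha hb n
  have := key _ _ _ _ h₂ h₁ b a hb ha n
  have := abs_le.1 (le_refl |a + b|)
  rw [abs_le]; omega

omit hF in
theorem tendsto_unique_of_lattices {M₂ : Submodule (WittVector p k) N} (hM₂ : M₂.IsLattice K(p, k))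
    (hF : Function.Bijective F) {o₁ o₂ : ℕ → ℤ} (h₁ : IsOrdFun F M o₁) (h₂ : IsOrdFun F M₂ o₂) {lam : ℝ}
    (h : Tendsto (fun n : ℕ => (o₁ n : ℝ) / n) atTop (𝓝 lam)) :
    Tendsto (fun n : ℕ => (o₂ n : ℝ) / n) atTop (𝓝 lam) := by
  obtain ⟨C, hC⟩ := abs_sub_le_of_lattices F hF hM hM₂ h₁ h₂
  have h0 : Tendsto (fun n : ℕ => ((o₂ n : ℝ) - o₁ n) / n) atTop (𝓝 0) := by
    refine squeeze_zero_norm (fun n => ?_) (tendsto_const_div_atTop_nhds_zero_nat (C : ℝ))
    rw [Real.norm_eq_abs, abs_div, Nat.abs_cast]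
    gcongr
    rw [abs_sub_comm]
    exact_mod_cast hC n
  have := h.add h0
  simpa [← add_div] using this

omit hM in
/-- A first slope is computed by every lattice. -/
theorem IsFirstSlope.spec {lam : ℝ} (hlam : Isoc.IsFirstSlope F lam)
    {M : Submodule (WittVector p k) N} (hM : M.IsLattice K(p, k)) :
    Nontrivial N ∧ ∃ o : ℕ → ℤ, IsOrdFun F M o ∧
      Tendsto (fun n : ℕ => (o n : ℝ) / n) atTop (𝓝 lam) ∧ ∀ n : ℕ, (o n : ℝ) ≤ n * lam := by
  obtain ⟨M₁, hM₁, o₁, ho₁, hlim⟩ := hlam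
  have hN : Nontrivial N := IsOrd.nontrivial F (ho₁ 1 le_rfl)
  obtain ⟨o₁', ho₁'⟩ := exists_isOrdFun F hF hM₁
  obtain ⟨o, ho⟩ := exists_isOrdFun F hF hM
  have hlim' : Tendsto (fun n : ℕ => (o₁' n : ℝ) / n) atTop (𝓝 lam) := by
    refine hlim.congr' ?_
    filter_upwards [eventually_ge_atTop 1] with n hn
    rw [ho₁'.eq_of_isOrd F (ho₁ n hn)]
  have hlim2 := tendsto_unique_of_lattices F hM₁ hM hF ho₁' ho hlim'
  obtain ⟨lam', hl, hle⟩ := exists_tendsto_of_isOrdFun F hF hM ho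
  exact ⟨hN, o, ho, hlim2, by rwa [tendsto_nhds_unique hlim2 hl]⟩

theorem exists_isFirstSlope [Nontrivial N] : ∃ lam : ℝ, Isoc.IsFirstSlope F lam := by
  obtain ⟨o, ho⟩ := exists_isOrdFun F hF hM
  obtain ⟨lam, hl, -⟩ := exists_tendsto_of_isOrdFun F hF hM ho
  exact ⟨lam, M, hM, o, fun n _ => ho.isOrd F n, hl⟩

omit hM in
theorem IsFirstSlope.unique {l l' : ℝ} (h : Isoc.IsFirstSlope F l) (h' : Isoc.IsFirstSlope F l') : l = l' := by
  obtain ⟨M, hM, -⟩ := id h
  obtain ⟨-, o, ho, hl, -⟩ := IsFirstSlope.spec F hF h hM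
  obtain ⟨-, o', ho', hl', -⟩ := IsFirstSlope.spec F hF h' hM
  have : o = o' := funext fun n => le_antisymm ((ho' n _).1 ((ho n _).2 le_rfl)) ((ho n _).1 ((ho' n _).2 le_rfl))
  exact tendsto_nhds_unique hl (this ▸ hl')

omit hF hM in
theorem latImg_mul_eq {s : ℕ} {r : ℤ} (h : Isoc.latImg F s M = Isoc.pPow r M) (j : ℕ) :
    Isoc.latImg F (s * j) M = Isoc.pPow (r * j) M := by
  induction j with
  | zero => simp [latImg_zero]
  | succ j ih =>
    rw [Nat.mul_succ, latImg_add, h, latImg_pPow, ih, pPow_pPow]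
    congr 1; push_cast; ring

theorem isFirstSlope_of_latImg_eq [Nontrivial N] {s : ℕ} {r : ℤ} (hs : 0 < s)
    (h : Isoc.latImg F s M = Isoc.pPow r M) : Isoc.IsFirstSlope F ((r : ℝ) / s) := by
  obtain ⟨lam, hlam⟩ := exists_isFirstSlope F hF hM
  obtain ⟨-, o, ho, hl, -⟩ := IsFirstSlope.spec F hF hlam hM
  have hoj : ∀ j, o (s * j) = r * j := fun j => by
    refine le_antisymm ?_ ((ho _ _).1 (latImg_mul_eq F h j).le)
    have h1 := (latImg_mul_eq F h j).symm.le.trans ((ho (s * j) _).2 le_rfl)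
    have h2 := pPow_mono (-(r * j)) h1
    rw [pPow_pPow, pPow_pPow, neg_add_cancel, pPow_zero] at h2
    have := le_zero_of_le_pPow hM h2
    omega
  have hsub : Tendsto (fun j : ℕ => s * j) atTop atTop :=
    tendsto_atTop_mono (fun j => Nat.le_mul_of_pos_left j hs) tendsto_id
  have h1 := hl.comp hsub
  have h2 : Tendsto (fun j : ℕ => (r : ℝ) / s) atTop (𝓝 ((r : ℝ) / s)) := tendsto_const_nhds
  have heq : (fun n : ℕ => (o n : ℝ) / n) ∘ (fun j => s * j) =ᶠ[atTop] fun _ => (r : ℝ) / s := by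
    filter_upwards [eventually_ge_atTop 1] with j hj
    simp only [Function.comp_apply, hoj]
    have : (j : ℝ) ≠ 0 := by exact_mod_cast (show j ≠ 0 by omega)
    push_cast
    field_simp
  rwa [← tendsto_nhds_unique (h1.congr' heq) h2]

end Groth.L13.Isoc
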