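import Groth.Prelude.Def_Isoc
import Mathlib.RingTheory.WittVector.DiscreteValuationRing
import Mathlib.RingTheory.Localization.FractionRing

/-! Orders of scalars in the fraction field of the Witt vectors, and well behaved twists. -/

set_option autoImplicit false

noncomputable section

open scoped Pointwise Isocrystal

universe u

namespace Groth.L13.Isoc

variable {p : ℕ} [Fact p.Prime] {k : Type u} [Field k] [CharP k p]

/-- The inclusion of the Witt vectors in their fraction field. -/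
abbrev iW : WittVector p k →+* K(p, k) := algebraMap (WittVector p k) K(p, k)

theorem iW_injective : Function.Injective (iW (p := p) (k := k)) :=
  IsFractionRing.injective (WittVector p k) K(p, k)

@[simp] theorem iW_natCast : iW (p := p) (k := k) (p : WittVector p k) = (p : K(p, k)) := map_natCast _ _

theorem pne : (p : K(p, k)) ≠ 0 := by
  rw [← iW_natCast, map_ne_zero_iff _ iW_injective]
  exact WittVector.p_nonzero p k

theorem iW_unit_ne_zero (u : (WittVector p k)ˣ) : iW (p := p) (k := k) (u : WittVector p k) ≠ 0 :=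
  (u.isUnit.map iW).ne_zero

/-- `c` lies in `p^r W`. -/
def InP (c : K(p, k)) (r : ℤ) : Prop := ∃ w : WittVector p k, c = (p : K(p, k)) ^ r * iW w

theorem InP.zero (r : ℤ) : InP (0 : K(p, k)) r := ⟨0, by simp⟩

theorem InP.add {c c' : K(p, k)} {r : ℤ} (h : InP c r) (h' : InP c' r) : InP (c + c') r := by
  obtain ⟨w, rfl⟩ := h; obtain ⟨w', rfl⟩ := h'
  exact ⟨w + w', by rw [map_add, mul_add]⟩

theorem InP.mul {c c' : K(p, k)} {r r' : ℤ} (h : InP c r) (h' : InP c' r') : InP (c * c') (r + r') := by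
  obtain ⟨w, rfl⟩ := h; obtain ⟨w', rfl⟩ := h'
  exact ⟨w * w', by rw [map_mul, zpow_add₀ pne]; ring⟩

theorem InP.mono {c : K(p, k)} {r r' : ℤ} (h : InP c r) (hr : r' ≤ r) : InP c r' := by
  obtain ⟨w, rfl⟩ := h
  obtain ⟨n, rfl⟩ : ∃ n : ℕ, r = r' + n := ⟨(r - r').toNat, by omega⟩
  exact ⟨(p : WittVector p k) ^ n * w, by rw [map_mul, map_pow, iW_natCast, zpow_add₀ pne, zpow_natCast]; ring⟩

theorem inP_zero_iff {c : K(p, k)} : InP c 0 ↔ ∃ w, c = iW w := by simp [InP]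

theorem InP.iW (w : WittVector p k) : InP (iW w) 0 := inP_zero_iff.2 ⟨w, rfl⟩

theorem InP.sum {ι : Type*} (s : Finset ι) (f : ι → K(p, k)) (r : ℤ) (h : ∀ i ∈ s, InP (f i) r) :
    InP (∑ i ∈ s, f i) r := by
  classical
  induction s using Finset.induction_on with
  | empty => simpa using InP.zero r
  | insert a s ha ih =>
    rw [Finset.sum_insert ha]
    exact (h a (by simp)).add (ih fun i hi => h i (by simp [hi]))

theorem inP_det {n : ℕ} (A : Matrix (Fin n) (Fin n) K(p, k)) (r : ℤ) (h : ∀ i j, InP (A i j) r) :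
    InP A.det (n * r) := by
  choose w hw using h
  have : A = (p : K(p, k)) ^ r • (Matrix.of w).map (iW (p := p) (k := k)) := by
    ext i j; simp [hw i j]
  rw [this, Matrix.det_smul, ← RingHom.mapMatrix_apply, ← RingHom.map_det]
  exact ⟨(Matrix.of w).det, by rw [Fintype.card_fin, ← zpow_natCast, ← zpow_mul, mul_comm r]⟩

theorem IsOrdP.inP {c : K(p, k)} {r : ℤ} (h : Isoc.IsOrdP c r) : InP c r := by
  obtain ⟨u, rfl⟩ := h; exact ⟨_, rfl⟩

theorem IsOrdP.ne_zero {c : K(p, k)} {r : ℤ} (h : Isoc.IsOrdP c r) : c ≠ 0 := by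
  obtain ⟨u, rfl⟩ := h
  exact mul_ne_zero (zpow_ne_zero _ pne) (iW_unit_ne_zero u)

theorem IsOrdP.le {c : K(p, k)} {r r' : ℤ} (h : Isoc.IsOrdP c r) (h' : InP c r') : r' ≤ r := by
  obtain ⟨u, rfl⟩ := h
  obtain ⟨w, hw⟩ := h'
  by_contra hlt
  obtain ⟨n, hn⟩ : ∃ n : ℕ, r' = r + (n + 1 : ℕ) := ⟨(r' - r - 1).toNat, by omega⟩
  rw [hn, zpow_add₀ pne, zpow_natCast, mul_assoc, mul_right_inj' (zpow_ne_zero _ pne),
    ← iW_natCast, ← map_pow, ← map_mul] at hw
  have hu := u.isUnit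
  rw [iW_injective hw, pow_succ', mul_assoc] at hu
  exact (WittVector.irreducible p (k := k)).not_isUnit (isUnit_of_mul_isUnit_left hu)

theorem IsOrdP.unique {c : K(p, k)} {r r' : ℤ} (h : Isoc.IsOrdP c r) (h' : Isoc.IsOrdP c r') : r = r' :=
  le_antisymm (IsOrdP.le h' (IsOrdP.inP h)) (IsOrdP.le h (IsOrdP.inP h'))

theorem IsOrdP.mul {c c' : K(p, k)} {r r' : ℤ} (h : Isoc.IsOrdP c r) (h' : Isoc.IsOrdP c' r') :
    Isoc.IsOrdP (c * c') (r + r') := by
  obtain ⟨u, rfl⟩ := h; obtain ⟨u', rfl⟩ := h'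
  exact ⟨u * u', by rw [Units.val_mul, map_mul, zpow_add₀ pne]; ring⟩

theorem isOrdP_zpow (r : ℤ) : Isoc.IsOrdP ((p : K(p, k)) ^ r) r := ⟨1, by simp⟩

theorem isOrdP_one : Isoc.IsOrdP (1 : K(p, k)) 0 := ⟨1, by simp⟩

theorem IsOrdP.inv {c : K(p, k)} {r : ℤ} (h : Isoc.IsOrdP c r) : Isoc.IsOrdP c⁻¹ (-r) := by
  obtain ⟨u, rfl⟩ := h
  refine ⟨u⁻¹, ?_⟩
  rw [mul_inv, zpow_neg, map_units_inv]

theorem isOrdP_zero_iff {c : K(p, k)} :
    Isoc.IsOrdP c 0 ↔ ∃ w : WittVector p k, IsUnit w ∧ c = iW w := by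
  constructor
  · rintro ⟨u, rfl⟩; exact ⟨u, u.isUnit, by simp⟩
  · rintro ⟨w, hw, rfl⟩; exact ⟨hw.unit, by simp⟩

variable [PerfectRing k p]

theorem exists_isOrdP {c : K(p, k)} (hc : c ≠ 0) : ∃ r, Isoc.IsOrdP c r := by
  obtain ⟨x, y, hy, rfl⟩ := IsFractionRing.div_surjective (A := WittVector p k) c
  have hx : x ≠ 0 := by rintro rfl; simp at hc
  obtain ⟨a, u, rfl⟩ := WittVector.exists_eq_pow_p_mul' x hx
  obtain ⟨b, v, rfl⟩ := WittVector.exists_eq_pow_p_mul' y (nonZeroDivisors.ne_zero hy)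
  have : ∀ (n : ℕ) (w : (WittVector p k)ˣ), Isoc.IsOrdP (iW ((p : WittVector p k) ^ n * (w : WittVector p k))) n :=
    fun n w => ⟨w, by rw [map_mul, map_pow, iW_natCast, zpow_natCast]⟩
  exact ⟨a + -b, by rw [div_eq_mul_inv]; exact IsOrdP.mul (this a u) (IsOrdP.inv (this b v))⟩

theorem exists_inP (c : K(p, k)) : ∃ r, InP c r := by
  by_cases hc : c = 0
  · exact ⟨0, hc ▸ InP.zero 0⟩
  · obtain ⟨r, hr⟩ := exists_isOrdP hc; exact ⟨r, IsOrdP.inP hr⟩

omit [PerfectRing k p] in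
/-- A twist which restricts to an automorphism of the Witt vectors. -/
class IsGood (τ : K(p, k) →+* K(p, k)) : Prop where
  exists_equiv : ∃ e : WittVector p k ≃+* WittVector p k, ∀ w, τ (iW w) = iW (e w)

instance (a : ℤ) : IsGood (Isoc.frob p k a) :=
  ⟨⟨WittVector.frobeniusEquiv p k ^ a, fun w => Isoc.frob_algebraMap p k a w⟩⟩

omit [PerfectRing k p] in
instance IsGood.pow (τ : K(p, k) →+* K(p, k)) [h : IsGood τ] (n : ℕ) : IsGood (τ ^ n) := by
  obtain ⟨e, he⟩ := h.exists_equiv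
  refine ⟨⟨e ^ n, fun w => ?_⟩⟩
  induction n generalizing w with
  | zero => rfl
  | succ n ih =>
    rw [pow_succ', pow_succ', RingHom.coe_mul, Function.comp_apply, ih, he]
    rfl

variable {τ : K(p, k) →+* K(p, k)} [hτ : IsGood τ]

omit [PerfectRing k p] in
theorem tau_iW (w : WittVector p k) : ∃ w', τ (iW w) = iW w' := by
  obtain ⟨e, he⟩ := hτ.exists_equiv; exact ⟨_, he w⟩

omit [PerfectRing k p] in
theorem iW_eq_tau (w : WittVector p k) : ∃ w', τ (iW w') = iW w := by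
  obtain ⟨e, he⟩ := hτ.exists_equiv; exact ⟨e.symm w, by rw [he, e.apply_symm_apply]⟩

omit [PerfectRing k p] in
theorem tau_surjective : Function.Surjective τ := fun c => by
  obtain ⟨x, y, -, rfl⟩ := IsFractionRing.div_surjective (A := WittVector p k) c
  obtain ⟨x', hx⟩ := iW_eq_tau (τ := τ) x
  obtain ⟨y', hy⟩ := iW_eq_tau (τ := τ) y
  exact ⟨iW x' / iW y', by rw [map_div₀, hx, hy]⟩

omit hτ [PerfectRing k p] in
@[simp] theorem tau_zpow (r : ℤ) : τ ((p : K(p, k)) ^ r) = (p : K(p, k)) ^ r := by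
  rw [map_zpow₀, map_natCast]

omit [PerfectRing k p] in
theorem InP.tau {c : K(p, k)} {r : ℤ} (h : InP c r) : InP (τ c) r := by
  obtain ⟨w, rfl⟩ := h
  obtain ⟨w', hw'⟩ := tau_iW (τ := τ) w
  exact ⟨w', by rw [map_mul, tau_zpow, hw']⟩

omit [PerfectRing k p] in
theorem IsOrdP.tau {c : K(p, k)} {r : ℤ} (h : Isoc.IsOrdP c r) : Isoc.IsOrdP (τ c) r := by
  obtain ⟨u, rfl⟩ := h
  obtain ⟨e, he⟩ := hτ.exists_equiv
  exact ⟨Units.map e.toMonoidHom u, by rw [map_mul, tau_zpow]; exact congrArg _ (he _)⟩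

end Groth.L13.Isoc
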