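import Groth.Agent.L13.Isoc.Ord
import Groth.Agent.L13.Isoc.Chain
import Mathlib.NumberTheory.DiophantineApproximation.Basic

/-! Twisted iterates, effectiveness, and rationality of the first slope. -/

set_option autoImplicit false

noncomputable section

open scoped Pointwise Isocrystal
open Filter Topology

universe u v

namespace Groth.L13.Isoc

variable {p : ℕ} [Fact p.Prime] {k : Type u} [Field k] [CharP k p]
variable {N : Type v} [AddCommGroup N] [Module (WittVector p k) N] [Module K(p, k) N]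
  [IsScalarTower (WittVector p k) K(p, k) N]
variable {τ : K(p, k) →+* K(p, k)} (F : N →ₛₗ[τ] N)

local notation "W" => WittVector p k

/-- `p^m F^n`. -/
abbrev twist (m : ℤ) (n : ℕ) : N →ₛₗ[τ ^ n] N := (p : K(p, k)) ^ m • Isoc.iter F n

theorem twist_iterate (m : ℤ) (n j : ℕ) (x : N) :
    (⇑(twist F m n))^[j] x = (p : K(p, k)) ^ (m * j) • (⇑F)^[n * j] x := by
  induction j with
  | zero => simp
  | succ j ih =>
    rw [Function.iterate_succ_apply', ih, LinearMap.smul_apply, Isoc.iter_apply, iterate_pw,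
      smul_smul, ← zpow_add₀ pne, ← Function.iterate_add_apply, Nat.mul_succ, add_comm n]
    congr 2
    push_cast; ring

theorem latImg_twist [IsGood τ] (m : ℤ) (n j : ℕ) (M : Submodule W N) :
    Isoc.latImg (twist F m n) j M = Isoc.pPow (m * j) (Isoc.latImg F (n * j) M) := by
  ext y
  rw [mem_pPow, mem_latImg, mem_latImg]
  constructor
  · rintro ⟨x, hx, rfl⟩
    refine ⟨x, hx, ?_⟩
    rw [twist_iterate, smul_smul, ← zpow_add₀ pne, neg_add_cancel, zpow_zero, one_smul]
  · rintro ⟨x, hx, hxy⟩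
    refine ⟨x, hx, ?_⟩
    rw [twist_iterate, hxy, smul_smul, ← zpow_add₀ pne, add_neg_cancel, zpow_zero, one_smul]

theorem twist_bijective (hF : Function.Bijective F) (m : ℤ) (n : ℕ) :
    Function.Bijective (twist F m n) := by
  constructor
  · intro a b hab
    simp only [LinearMap.smul_apply, Isoc.iter_apply] at hab
    exact (hF.iterate n).1 (smul_right_injective N (zpow_ne_zero m (pne (p := p) (k := k))) hab)
  · intro y
    obtain ⟨x, hx⟩ := (hF.iterate n).2 ((p : K(p, k)) ^ (-m) • y)
    refine ⟨x, ?_⟩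
    rw [LinearMap.smul_apply, Isoc.iter_apply, hx, smul_smul, ← zpow_add₀ pne, add_neg_cancel,
      zpow_zero, one_smul]

variable [IsGood τ]

theorem effective_of_exists {M : Submodule W N} (hM : M.IsLattice K(p, k)) {n : ℕ} (hn : 0 < n)
    (h : Isoc.latImg F n M ≤ M) : Isoc.IsEffective F := by
  let S : ℕ → Submodule W N := fun j => Nat.rec M (fun _ Q => M ⊔ Isoc.latImg F 1 Q) j
  have hS0 : S 0 = M := rfl
  have hSs : ∀ j, S (j + 1) = M ⊔ Isoc.latImg F 1 (S j) := fun _ => rfl
  have hMS : ∀ j, M ≤ S j := fun j => by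
    cases j with
    | zero => exact le_rfl
    | succ j => exact le_sup_left
  have hle : ∀ i j, i ≤ j → Isoc.latImg F i M ≤ S j := by
    intro i
    induction i with
    | zero => intro j _; rw [latImg_zero]; exact hMS j
    | succ i ih =>
      intro j hj
      obtain ⟨j, rfl⟩ : ∃ j', j = j' + 1 := ⟨j - 1, by omega⟩
      rw [add_comm i, latImg_add]
      exact (latImg_mono F 1 (ih j (by omega))).trans le_sup_right
  have hfg : ∀ j, (S j).FG := fun j => by
    induction j with
    | zero => exact hM.fg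
    | succ j ih => exact hM.fg.sup (latImg_fg F 1 ih)
  have himg : ∀ j, ∀ t, t + j < n + 0 → Isoc.latImg F (t + 1) (S j) ≤ S (n - 1) := by
    intro j
    induction j with
    | zero =>
      intro t ht
      rw [hS0]
      rcases Nat.lt_or_ge (t + 1) n with h1 | h1
      · exact hle _ _ (by omega)
      · rw [show t + 1 = n by omega]; exact h.trans (hMS _)
    | succ j ih =>
      intro t ht
      rw [hSs, latImg_sup, ← latImg_add]
      refine sup_le ?_ (ih (t + 1) (by omega))
      exact hle _ _ (by omega)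
  refine ⟨S (n - 1), ⟨hfg _, eq_top_iff.2 (hM.span_eq_top ▸ Submodule.span_mono (hMS _))⟩, ?_⟩
  exact himg (n - 1) 0 (by omega)

variable [PerfectRing k p]

theorem effective_of_height_succ {M : Submodule W N} (hM : M.IsLattice K(p, k))
    (hF : Isoc.latImg F (Module.finrank K(p, k) N + 1) M ≤ Isoc.pPow (-1) M) : Isoc.IsEffective F := by
  obtain ⟨h, hh⟩ : ∃ h, h = Module.finrank K(p, k) N := ⟨_, rfl⟩
  rw [← hh] at hF
  let S : ℕ → Submodule W N := fun j => Nat.rec M (fun _ Q => M ⊔ Isoc.latImg F 1 Q) j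
  have hSs : ∀ j, S (j + 1) = M ⊔ Isoc.latImg F 1 (S j) := fun _ => rfl
  have hMS : ∀ j, M ≤ S j := fun j => by
    cases j with
    | zero => exact le_rfl
    | succ j => exact le_sup_left
  have hmono : Monotone S := monotone_nat_of_le_succ fun j => by
    induction j with
    | zero => exact le_sup_left
    | succ j ih => rw [hSs, hSs (j + 1)]; exact sup_le_sup_left (latImg_mono F 1 ih) _
  have hle : ∀ i j, i ≤ j → Isoc.latImg F i M ≤ S j := by
    intro i
    induction i with
    | zero => intro j _; rw [latImg_zero]; exact hMS j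
    | succ i ih =>
      intro j hj
      obtain ⟨j, rfl⟩ : ∃ j', j = j' + 1 := ⟨j - 1, by omega⟩
      rw [add_comm i, latImg_add]
      exact (latImg_mono F 1 (ih j (by omega))).trans le_sup_right
  have hupper : ∀ j, ∀ B : Submodule W N, (∀ i ≤ j, Isoc.latImg F i M ≤ B) → S j ≤ B := by
    intro j
    induction j with
    | zero => intro B hB; show M ≤ B; simpa [latImg_zero] using hB 0 le_rfl
    | succ j ih =>
      intro B hB
      rw [hSs]
      refine sup_le (by simpa [latImg_zero] using hB 0 (by omega)) ?_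
      have key : ∀ l, l ≤ j → ∀ t, t + l ≤ j → Isoc.latImg F (t + 1) (S l) ≤ B := by
        intro l
        induction l with
        | zero => intro _ t ht; exact hB _ (by omega)
        | succ l ihl =>
          intro hl t ht
          rw [hSs, latImg_sup, ← latImg_add]
          exact sup_le (hB _ (by omega)) (ihl (by omega) (t + 1) (by omega))
      exact key j le_rfl 0 (by omega)
  have hfg : ∀ j, (S j).FG := fun j => by
    induction j with
    | zero => exact hM.fg
    | succ j ih => exact hM.fg.sup (latImg_fg F 1 ih)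
  have hlat : ∀ j, (S j).IsLattice K(p, k) := fun j =>
    ⟨hfg j, eq_top_iff.2 (hM.span_eq_top ▸ Submodule.span_mono (hMS j))⟩
  have hbig : S (2 * h + 1) ≤ Isoc.pPow (-1) (S h) := by
    refine hupper (2 * h + 1) (Isoc.pPow (-1) (S h)) ?_
    intro i hi
    rcases Nat.lt_or_ge i (h + 1) with h1 | h1
    · exact (hle i h (by omega)).trans ((pPow_zero (S h)).ge.trans (pPow_anti (by norm_num) _))
    · obtain ⟨l, rfl⟩ : ∃ l, i = l + (h + 1) := ⟨i - (h + 1), by omega⟩
      rw [latImg_add]
      refine (latImg_mono F l hF).trans ?_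
      rw [latImg_pPow]
      exact pPow_mono _ (hle l h (by omega))
  obtain ⟨h', ⟨b⟩⟩ := exists_lattice_basis (hlat h)
  obtain rfl : h' = h := by rw [hh, finrank_eq_of_basis (hlat h) b]
  obtain ⟨j, hj, he⟩ := chain_stable b (fun j => Isoc.pPow 1 (S (min (h' + j) (2 * h' + 1))))
    (fun i j hij => pPow_mono 1 (hmono (by omega)))
    (pPow_mono 1 (hmono (by omega)))
    (fun j => by
      refine (pPow_mono 1 ((hmono (min_le_right _ _)).trans hbig)).trans ?_
      rw [pPow_pPow, add_neg_cancel, pPow_zero])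
  simp only [show min (h' + (j + 1)) (2 * h' + 1) = h' + j + 1 by omega,
    show min (h' + j) (2 * h' + 1) = h' + j by omega] at he
  refine ⟨S (h' + j), hlat _, ?_⟩
  have he' := le_antisymm ((pPow_le_pPow_iff 1).1 he.le) ((pPow_le_pPow_iff 1).1 he.ge)
  calc Isoc.latImg F 1 (S (h' + j)) ≤ S (h' + j + 1) := le_sup_right
    _ = S (h' + j) := he'

variable (hF : Function.Bijective F)
include hF

theorem isFirstSlope_twist {lam : ℝ} (hlam : Isoc.IsFirstSlope F lam) (m : ℤ) (n : ℕ) :
    Isoc.IsFirstSlope (twist F m n) (n * lam + m) := by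
  obtain ⟨M, hM, -⟩ := id hlam
  obtain ⟨hN, o, ho, hl, -⟩ := IsFirstSlope.spec F hF hlam hM
  refine ⟨M, hM, fun j => m * j + o (n * j), fun j _ => ?_, ?_⟩
  · rw [isOrd_iff_forall]
    intro r
    rw [latImg_twist, show r = m * j + (r - m * j) by ring, ← pPow_pPow, pPow_le_pPow_iff, ho]
    dsimp only
    omega
  · rcases Nat.eq_zero_or_pos n with rfl | hn
    · simp only [Nat.cast_zero, zero_mul, zero_add, ho.zero F hM, add_zero]
      refine tendsto_const_nhds.congr' ?_
      filter_upwards [eventually_ge_atTop 1] with j hj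
      have : (j : ℝ) ≠ 0 := by exact_mod_cast (show j ≠ 0 by omega)
      push_cast; field_simp
    · have hsub : Tendsto (fun j : ℕ => n * j) atTop atTop :=
        tendsto_atTop_mono (fun j => Nat.le_mul_of_pos_left j hn) tendsto_id
      have := ((hl.comp hsub).const_mul (n : ℝ)).add_const (m : ℝ)
      refine this.congr' ?_
      filter_upwards [eventually_ge_atTop 1] with j hj
      have : (j : ℝ) ≠ 0 := by exact_mod_cast (show j ≠ 0 by omega)
      have : (n : ℝ) ≠ 0 := by exact_mod_cast hn.ne'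
      simp only [Function.comp_apply]
      push_cast; field_simp; ring

theorem nonneg_of_effective {lam : ℝ} (hlam : Isoc.IsFirstSlope F lam) (he : Isoc.IsEffective F) :
    0 ≤ lam := by
  obtain ⟨M, hM, hst⟩ := he
  obtain ⟨-, o, ho, -, hle⟩ := IsFirstSlope.spec F hF hlam hM
  have h1 : (0 : ℤ) ≤ o 1 := (ho 1 0).1 (by rwa [pPow_zero])
  have := hle 1
  have h1' : (0 : ℝ) ≤ o 1 := by exact_mod_cast h1
  simp at this; linarith

theorem effective_of_pos {lam : ℝ} (hlam : Isoc.IsFirstSlope F lam) (hpos : 0 < lam) :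
    Isoc.IsEffective F := by
  obtain ⟨M, hM, -⟩ := id hlam
  obtain ⟨-, o, ho, hl, -⟩ := IsFirstSlope.spec F hF hlam hM
  obtain ⟨n, hn, hn1⟩ := ((hl.eventually_const_lt hpos).and (eventually_ge_atTop 1)).exists
  have hn0 : (0 : ℤ) ≤ o n := by
    by_contra hneg
    push Not at hneg
    have : (o n : ℝ) / n ≤ 0 := div_nonpos_of_nonpos_of_nonneg (by exact_mod_cast hneg.le) (Nat.cast_nonneg _)
    linarith
  exact effective_of_exists F hM (n := n) (by omega) (by simpa using (ho n 0).2 hn0)

theorem effective_of_nonneg {lam : ℝ} (hlam : Isoc.IsFirstSlope F lam) (hnn : 0 ≤ lam) :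
    Isoc.IsEffective F := by
  set h := Module.finrank K(p, k) N with hh
  have hs := isFirstSlope_twist F hF hlam 1 (h + 1)
  obtain ⟨M, hM, hst⟩ := effective_of_pos _ (twist_bijective F hF 1 (h + 1)) hs (by positivity)
  refine effective_of_height_succ F hM ?_
  rw [← hh]
  rw [latImg_twist, Nat.cast_one, mul_one, mul_one] at hst
  have := pPow_mono (-1) hst
  rwa [pPow_pPow, neg_add_cancel, pPow_zero] at this

theorem exists_latImg_le_of_le {lam : ℝ} (hlam : Isoc.IsFirstSlope F lam) {r : ℤ} {s : ℕ}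
    (hrs : (r : ℝ) ≤ s * lam) :
    ∃ M : Submodule W N, M.IsLattice K(p, k) ∧ Isoc.latImg F s M ≤ Isoc.pPow r M := by
  obtain ⟨M, hM, hst⟩ := effective_of_nonneg _ (twist_bijective F hF (-r) s)
    (isFirstSlope_twist F hF hlam (-r) s) (by push_cast; linarith)
  refine ⟨M, hM, ?_⟩
  rw [latImg_twist, Nat.cast_one, mul_one, mul_one] at hst
  have := pPow_mono r hst
  rwa [pPow_pPow, add_neg_cancel, pPow_zero] at this

theorem exists_rational {lam : ℝ} (hlam : Isoc.IsFirstSlope F lam) :
    ∃ (r : ℤ) (s : ℕ) (M : Submodule W N), 0 < s ∧ s ≤ Module.finrank K(p, k) N ∧ lam = (r : ℝ) / s ∧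
      M.IsLattice K(p, k) ∧ Isoc.latImg F s M ≤ Isoc.pPow r M ∧ Isoc.IsOrd M F s r := by
  obtain ⟨M₀, hM₀, -⟩ := id hlam
  obtain ⟨hN, -⟩ := IsFirstSlope.spec F hF hlam hM₀
  obtain ⟨h, ⟨b₀⟩⟩ := exists_lattice_basis hM₀
  have hfin : Module.finrank K(p, k) N = h := finrank_eq_of_basis hM₀ b₀
  haveI := hM₀
  haveI : Module.Finite K(p, k) N := Module.Finite.of_basis (b₀.extendOfIsLattice K(p, k))
  have hh : 0 < h := hfin ▸ Module.finrank_pos
  obtain ⟨r, s', hs0, hsle, hab⟩ := Real.exists_int_int_abs_mul_sub_le lam hh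
  obtain ⟨s, rfl⟩ : ∃ s : ℕ, s' = s := ⟨s'.toNat, by omega⟩
  set δ : ℝ := (s : ℝ) * lam - r with hδdef
  have hδ := abs_le.1 (show |δ| ≤ 1 / ((h : ℝ) + 1) by simpa [δ] using hab)
  have hslope : Isoc.IsFirstSlope (twist F (-r) s) δ := by
    have := isFirstSlope_twist F hF hlam (-r) s
    simpa [δ, ← sub_eq_add_neg] using this
  have hGb := twist_bijective F hF (-r) s
  set G := twist F (-r) s
  have hh1 : (0 : ℝ) < (h : ℝ) + 1 := by positivity
  have hG'' := isFirstSlope_twist G hGb hslope 1 (h + 1)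
  obtain ⟨M', hM', hst'⟩ := effective_of_nonneg _ (twist_bijective G hGb 1 (h + 1)) hG'' (by
    have h1 : -1 ≤ δ * ((h : ℝ) + 1) := by
      have := mul_le_mul_of_nonneg_right hδ.1 hh1.le
      rwa [neg_mul, div_mul_cancel₀ _ hh1.ne'] at this
    push_cast; linarith)
  have heff : Isoc.IsEffective G := effective_of_height_succ G hM' (by
    rw [hfin]
    rw [latImg_twist, Nat.cast_one, mul_one, mul_one] at hst'
    have := pPow_mono (-1) hst'
    rwa [pPow_pPow, neg_add_cancel, pPow_zero] at this)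
  have hnn := nonneg_of_effective G hGb hslope heff
  obtain ⟨M, hM, hst⟩ := heff
  obtain ⟨-, o, ho, hl, hle⟩ := IsFirstSlope.spec G hGb hslope hM
  have hzero : δ = 0 := by
    by_contra hne
    have hpos : 0 < δ := lt_of_le_of_ne hnn (Ne.symm hne)
    obtain ⟨n, hn⟩ := (hl.eventually_const_lt hpos).exists
    have hn1 : (1 : ℤ) ≤ o n := by
      by_contra hlt
      push Not at hlt
      have : (o n : ℝ) / n ≤ 0 :=
        div_nonpos_of_nonpos_of_nonneg (by exact_mod_cast Int.lt_add_one_iff.1 hlt) (Nat.cast_nonneg _)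
      linarith
    obtain ⟨h', ⟨b⟩⟩ := exists_lattice_basis hM
    obtain rfl : h' = h := by rw [← hfin, finrank_eq_of_basis hM b]
    have hoh : (1 : ℤ) ≤ o h' := (ho _ _).1 (latImg_rank_le_of_topNilpotent G b hst ((ho n 1).2 hn1))
    have h2 : (1 : ℝ) ≤ h' * δ := le_trans (by exact_mod_cast hoh) (hle h')
    have h3 := mul_le_mul_of_nonneg_left hδ.2 (Nat.cast_nonneg (α := ℝ) h')
    have h4 : (h' : ℝ) * (1 / ((h' : ℝ) + 1)) < 1 := by
      rw [mul_one_div, div_lt_one (by positivity)]; linarith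
    linarith
  have hle1 : Isoc.latImg F s M ≤ Isoc.pPow r M := by
    rw [latImg_twist, Nat.cast_one, mul_one, mul_one] at hst
    have := pPow_mono r hst
    rwa [pPow_pPow, add_neg_cancel, pPow_zero] at this
  refine ⟨r, s, M, by omega, by omega, ?_, hM, hle1, hle1, fun h' => ?_⟩
  · have : (s : ℝ) ≠ 0 := by exact_mod_cast (show s ≠ 0 by omega)
    rw [eq_div_iff this]
    linarith [hzero ▸ hδdef]
  · have : (1 : ℤ) ≤ o 1 := (ho 1 1).1 (by
      rw [latImg_twist, Nat.cast_one, mul_one, mul_one]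
      have := pPow_mono (-r) h'
      rwa [pPow_pPow, show -r + (r + 1) = 1 by ring] at this)
    have h2 := hle 1
    have h3 : (1 : ℝ) ≤ o 1 := by exact_mod_cast this
    simp [hzero] at h2
    have h4 : (o 1 : ℝ) ≤ 0 := by exact_mod_cast h2
    linarith

end Groth.L13.Isoc
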